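import Cfsg.Agent.Lib.PSL2Sol.Tame

/-!
The solubiliser of an involution of `PSL₂(2^l)`, and conjugation invariance.
-/

set_option autoImplicit false
set_option linter.unusedSectionVars false
set_option linter.style.haveILetI false

namespace CfsgLib.PSL2Sol

open Matrix OnePoint CfsgLib.PSL2Sub
open CfsgLib.SL2Trace (mk2 coe_mk2)

/-- The solubiliser size is a class function. -/
theorem card_sol_conj {G : Type*} [Group G] (g x : G) :
    Nat.card {y : G // Group.IsSolvable ↥(Subgroup.closure ({g * x * g⁻¹, y} : Set G))} =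
      Nat.card {y : G // Group.IsSolvable ↥(Subgroup.closure ({x, y} : Set G))} := by
  refine (Nat.card_congr ((MulAut.conj g).toEquiv.subtypeEquiv fun y => ?_)).symm
  have e : Subgroup.closure ({g * x * g⁻¹, (MulAut.conj g) y} : Set G) =
      (Subgroup.closure ({x, y} : Set G)).map (MulAut.conj g).toMonoidHom := by
    rw [MonoidHom.map_closure, Set.image_pair]
    rfl
  show _ ↔ Group.IsSolvable ↥(Subgroup.closure ({g * x * g⁻¹, (MulAut.conj g) y} : Set G))
  rw [e]
  set E := (Subgroup.closure ({x, y} : Set G)).equivMapOfInjective _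
    (show Function.Injective (MulAut.conj g).toMonoidHom from (MulAut.conj g).injective)
  exact ⟨fun h => by haveI := h; exact Group.isSolvable_of_surjective (f := E.toMonoidHom) E.surjective,
    fun h => by haveI := h; exact Group.isSolvable_of_isSolvable_injective (f := E.toMonoidHom) E.injective⟩

variable {F : Type*} [Field F] [Fintype F] [DecidableEq F]

local notation "SL2" => SpecialLinearGroup (Fin 2) F

local notation "π₂" => (QuotientGroup.mk : SpecialLinearGroup (Fin 2) F → PS F)

variable {l : ℕ} [CharP F 2]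

/-- The involutions not fixing `∞`. -/
theorem card_involutions_off : Nat.card {y : PS F // y * y = 1 ∧ y ∉ pointStab (∞ : OnePoint F)} =
    Fintype.card F * (Fintype.card F - 1) := by
  classical
  haveI : Fact (Nat.Prime 2) := ⟨Nat.prime_two⟩
  obtain ⟨-, hgcd⟩ := (card_parity 2 (F := F)).2.1 rfl
  have hneg : ∀ a : F, -a = a := CharTwo.neg_eq
  have h := card_lift (fun y : PS F => y * y = 1 ∧ y ∉ pointStab (∞ : OnePoint F))
  rw [hgcd, one_mul] at h
  rw [← h, ← Nat.card_eq_fintype_card (α := F),
    show Nat.card F - 1 = Nat.card Fˣ by rw [Nat.card_units], ← Nat.card_prod]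
  refine Nat.card_congr
    { toFun := fun M => (M.1.1 0 0, Units.mk0 (M.1.1 1 0) fun h => M.2.2 (mem_pointStab_infty.2 h))
      invFun := fun q => ⟨mk2 q.1 ((q.1 * (-q.1) - 1) / (q.2 : F)) (q.2 : F) (-q.1)
        (by rw [div_mul_cancel₀ _ q.2.ne_zero]; ring), ?_, fun h =>
          q.2.ne_zero (by simpa [coe_mk2] using mem_pointStab_infty.1 h)⟩
      left_inv := fun M => ?_
      right_inv := fun q => Prod.ext (by simp [coe_mk2]) (Units.ext (by simp [coe_mk2])) }
  · rw [mk_sq_iff]
    left
    simp [coe_mk2]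
  · obtain ⟨M, hsq, hM⟩ := M
    have hc : M.1 1 0 ≠ 0 := fun h => hM (mem_pointStab_infty.2 h)
    have htr : M.1 0 0 + M.1 1 1 = 0 := by
      rcases (mk_sq_iff M).1 hsq with h | h
      · rwa [Matrix.trace_fin_two] at h
      · exact absurd (h ▸ one_mem _) hM
    have hd : M.1 1 1 = -M.1 0 0 := eq_neg_of_add_eq_zero_right htr
    have hdet := CfsgLib.SL2Trace.det_coe M
    apply Subtype.ext
    apply Subtype.ext
    ext i j
    fin_cases i <;> fin_cases j
    · simp [coe_mk2]
    · simp [coe_mk2]
      rw [div_eq_iff hc]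
      rw [hd] at hdet
      linear_combination hdet
    · simp [coe_mk2]
    · simp [coe_mk2, hd]

/-- The solubiliser of an involution in characteristic two. -/
theorem card_sol_involution_two (hl : l.Prime) (hF : Fintype.card F = 2 ^ l) {x : PS F}
    (hx : orderOf x = 2) :
    Nat.card {y : PS F // Group.IsSolvable ↥(Subgroup.closure ({x, y} : Set (PS F)))} =
      3 * Fintype.card F * (Fintype.card F - 1) := by
  classical
  haveI : Fact (Nat.Prime 2) := ⟨Nat.prime_two⟩
  have hx1 : x ≠ 1 := fun h => by rw [h, orderOf_one] at hx; norm_num at hx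
  obtain ⟨g, t, ht, hg⟩ := exists_conj_upper 2 hx1 (orderOf_dvd_iff_pow_eq_one.1 (dvd_of_eq hx))
  rw [← card_sol_conj g x]
  have hord : orderOf (g * x * g⁻¹) = 2 := by
    rw [show g * x * g⁻¹ = MulAut.conj g x from rfl, MulEquiv.orderOf_eq, hx]
  obtain ⟨z, hz⟩ : ∃ z, z = g * x * g⁻¹ := ⟨_, rfl⟩
  rw [← hz] at hg hord ⊢
  have hzz : z * z = 1 := (pow_two z).symm.trans (orderOf_dvd_iff_pow_eq_one.1 (dvd_of_eq hord))
  have hz1 : z ≠ 1 := fun h => by rw [h, orderOf_one] at hord; norm_num at hord
  have hfix : ∀ P : OnePoint F, toPG z • P = P → P = ∞ := fun P h => by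
    rw [hg] at h; exact (fix_upper ht P).1 h
  have hzinf : z ∈ pointStab (∞ : OnePoint F) := by rw [hg]; exact (fix_upper ht ∞).2 rfl
  set B : Set (PS F) := (pointStab (∞ : OnePoint F) : Set (PS F))
  set Z : Set (PS F) := {y | y * y = 1 ∧ y ∉ pointStab (∞ : OnePoint F)}
  set W : Set (PS F) := {y | z * y ∈ Z}
  have hset : {y : PS F | Group.IsSolvable ↥(Subgroup.closure ({z, y} : Set (PS F)))} = B ∪ Z ∪ W := by
    ext y
    by_cases hy : y ∈ pointStab (∞ : OnePoint F)
    · exact iff_of_true (solvable_of_fixed hzinf hy) (Or.inl (Or.inl hy))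
    have hy' : z * y ∉ pointStab (∞ : OnePoint F) := fun h => hy (by
      have := mul_mem (inv_mem hzinf) h
      rwa [inv_mul_cancel_left] at this)
    rw [Set.mem_setOf_eq]
    constructor
    · intro h
      have hor : y * y = 1 ∨ z * y * (z * y) = 1 := by
        rcases pair_cases hl (Or.inl rfl) hF h with ⟨P, h1, h2⟩ | ⟨-, hnd⟩ |
          ⟨k, a, b, hk, ha, -, h2, h3, -⟩ | ⟨a, b, -, ha, -, h2, h3, -, -⟩
        · obtain rfl := hfix P h1
          exact absurd h2 hy
        · exact absurd (by rw [hord]) hnd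
        · refine (dih_not_rotation (Nat.odd_iff.2 (by omega)) a b ?_ ?_).imp h2 h3
          · rw [← pow_two]; exact (ha 2).1 (by rw [pow_two]; exact hzz)
          · intro e; exact hz1 (by simpa using (ha 1).2 (by rw [pow_one]; exact e))
        · have := perm_three_involution a b (by rw [← pow_two]; exact (ha 2).1 (by rw [pow_two]; exact hzz))
            (fun e => hz1 (by simpa using (ha 1).2 (by rw [pow_one]; exact e)))
          refine this.imp (fun e => ?_) fun e => ?_
          · rw [← pow_two] at e ⊢; exact h2 2 e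
          · rw [← pow_two] at e ⊢; exact h3 2 e
      rcases hor with h' | h'
      · exact Or.inl (Or.inr ⟨h', hy⟩)
      · exact Or.inr ⟨h', hy'⟩
    · rintro ((h | h) | h)
      · exact absurd h hy
      · exact solvable_of_dihedral hzz (Or.inl h.1)
      · exact solvable_of_dihedral hzz (Or.inr h.1)
  have hd1 : Disjoint B Z := Set.disjoint_left.2 fun y hy hy' => hy'.2 hy
  have hd2 : Disjoint (B ∪ Z) W := by
    rw [Set.disjoint_left]
    rintro y (hy | hy) hw
    · exact hw.2 (mul_mem hzinf hy)
    · -- two commuting involutions with one fixing `∞`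
      have hzi : z⁻¹ = z := inv_eq_of_mul_eq_one_right hzz
      have hyi : y⁻¹ = y := inv_eq_of_mul_eq_one_right hy.1
      have hwi : (z * y)⁻¹ = z * y := inv_eq_of_mul_eq_one_right hw.1
      rw [_root_.mul_inv_rev, hzi, hyi] at hwi
      have hfix' : toPG z • (toPG y • (∞ : OnePoint F)) = toPG y • (∞ : OnePoint F) := by
        rw [← mul_smul, ← map_mul, ← hwi, map_mul, mul_smul]
        exact congrArg (toPG y • ·) (show toPG z • (∞ : OnePoint F) = ∞ from hzinf)
      exact hy.2 (hfix _ hfix')
  have hBc : B.ncard = Fintype.card F * (Fintype.card F - 1) := by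
    have := gcd_mul_card_pointStab (F := F) (∞ : OnePoint F)
    rwa [((card_parity 2 (F := F)).2.1 rfl).2, one_mul] at this
  have hZ : Z.ncard = Fintype.card F * (Fintype.card F - 1) := card_involutions_off
  have hW : W.ncard = Z.ncard := Nat.card_congr ((Equiv.mulLeft z).subtypeEquiv fun y => Iff.rfl)
  show Set.ncard {y : PS F | Group.IsSolvable ↥(Subgroup.closure ({z, y} : Set (PS F)))} = _
  rw [hset, Set.ncard_union_eq hd2, Set.ncard_union_eq hd1, hW, hBc, hZ]
  ring

end CfsgLib.PSL2Sol
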