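import Cfsg.Agent.Lib.PSL2Sub.Bounds
import Cfsg.Agent.Lib.PSL2Sub.PSL
import Cfsg.Agent.Lib.PSL2Sub.Polyhedral
import Cfsg.Agent.Lib.PSL2Sub.Maximal
import Mathlib.LinearAlgebra.Projectivization.PSL.PSL2

/-!
Solvable and non-solvable subgroups of `PSL₂(2^l)` and `PSL₂(3^l)` for a prime exponent `l`.
-/

set_option autoImplicit false
set_option linter.unusedSectionVars false
set_option linter.style.haveILetI false

namespace CfsgLib.PSL2Sol

open Matrix OnePoint CfsgLib.PSL2Sub
open scoped commutatorElement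

section Group

variable {G : Type*} [Group G]

/-- Two elements, the first normalising the cyclic group of the second. -/
theorem solvable_of_normalizing [Finite G] {x y : G}
    (h : x * y * x⁻¹ ∈ Subgroup.zpowers y) :
    Group.IsSolvable ↥(Subgroup.closure ({x, y} : Set G)) := by
  set H := Subgroup.closure ({x, y} : Set G) with hH
  have hxH : x ∈ H := Subgroup.subset_closure (Set.mem_insert x {y})
  have hyH : y ∈ H := Subgroup.subset_closure (Set.mem_insert_of_mem x (Set.mem_singleton y))
  set K := Subgroup.zpowers y with hK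
  have hle : K.map (MulAut.conj x).toMonoidHom ≤ K := by
    rw [hK, MonoidHom.map_zpowers]
    exact Subgroup.zpowers_le.2 h
  have heq : K.map (MulAut.conj x).toMonoidHom = K := Subgroup.eq_of_le_of_card_ge hle
    (Subgroup.card_map_of_injective (f := (MulAut.conj x).toMonoidHom)
      (MulAut.conj x).injective).ge
  have hxn : x ∈ Subgroup.normalizer (K : Set G) := by
    rw [Subgroup.mem_normalizer_iff]
    intro z
    constructor
    · intro hz
      exact heq ▸ ⟨z, hz, rfl⟩
    · intro hz
      rw [← heq] at hz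
      obtain ⟨z', hz', he⟩ := hz
      rwa [← (MulAut.conj x).injective he]
  have hHn : H ≤ Subgroup.normalizer (K : Set G) := by
    rw [hH, Subgroup.closure_le, Set.insert_subset_iff, Set.singleton_subset_iff]
    exact ⟨hxn, Subgroup.le_normalizer (Subgroup.mem_zpowers y)⟩
  haveI : (K.subgroupOf H).Normal := Subgroup.normal_subgroupOf_of_le_normalizer hHn
  haveI : Group.IsSolvable (K.subgroupOf H) := by
    haveI : IsCyclic (K.subgroupOf H) := isCyclic_of_surjective
      (Subgroup.subgroupOfEquivOfLe (Subgroup.zpowers_le.2 hyH)).symm.toMonoidHom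
      (Subgroup.subgroupOfEquivOfLe (Subgroup.zpowers_le.2 hyH)).symm.surjective
    exact Group.isSolvable_of_comm fun a b => (inferInstance : IsMulCommutative (K.subgroupOf H)).is_comm.comm a b
  haveI : IsCyclic (H ⧸ K.subgroupOf H) := by
    refine ⟨QuotientGroup.mk ⟨x, hxH⟩, fun q => ?_⟩
    obtain ⟨⟨z, hz⟩, rfl⟩ := QuotientGroup.mk_surjective q
    revert hz
    intro hz
    refine Subgroup.closure_induction (p := fun z hz => (QuotientGroup.mk (⟨z, hz⟩ : H) :
      H ⧸ K.subgroupOf H) ∈ Subgroup.zpowers (QuotientGroup.mk (⟨x, hxH⟩ : H)))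
      ?_ ?_ ?_ ?_ hz
    · rintro w (rfl | rfl)
      · exact Subgroup.mem_zpowers _
      · rw [(QuotientGroup.eq_one_iff (⟨w, hyH⟩ : H)).2 (Subgroup.mem_zpowers w)]
        exact one_mem _
    · exact one_mem _
    · intro a b ha hb h1 h2
      exact mul_mem h1 h2
    · intro a ha h1
      exact inv_mem h1
  haveI : Group.IsSolvable (H ⧸ K.subgroupOf H) :=
    Group.isSolvable_of_comm fun a b => (inferInstance : IsMulCommutative (H ⧸ K.subgroupOf H)).is_comm.comm a b
  exact (Group.isSolvable_iff_subgroup_quotient (K.subgroupOf H)).2 ⟨inferInstance, inferInstance⟩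

/-- An involution and an element, one of `y`, `x * y` being an involution. -/
theorem solvable_of_dihedral [Finite G] {x y : G} (hx : x * x = 1)
    (h : y * y = 1 ∨ (x * y) * (x * y) = 1) :
    Group.IsSolvable ↥(Subgroup.closure ({x, y} : Set G)) := by
  rcases h with hy | hxy
  · have e : Subgroup.closure ({x, y} : Set G) = Subgroup.closure {x, x * y} := by
      refine le_antisymm ((Subgroup.closure_le _).2 ?_) ((Subgroup.closure_le _).2 ?_)
      · rintro z (rfl | rfl)
        · exact Subgroup.subset_closure (Set.mem_insert _ _)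
        · have := mul_mem (inv_mem (Subgroup.subset_closure (Set.mem_insert x {x * z})))
            (Subgroup.subset_closure (k := ({x, x * z} : Set G))
              (Set.mem_insert_of_mem x (Set.mem_singleton _)))
          simpa using this
      · rintro z (rfl | rfl)
        · exact Subgroup.subset_closure (Set.mem_insert _ _)
        · exact mul_mem (Subgroup.subset_closure (Set.mem_insert _ _))
            (Subgroup.subset_closure (Set.mem_insert_of_mem x (Set.mem_singleton y)))
    rw [e]
    refine solvable_of_normalizing ?_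
    have hxi : x⁻¹ = x := inv_eq_of_mul_eq_one_right hx
    have hyi : y⁻¹ = y := inv_eq_of_mul_eq_one_right hy
    have : x * (x * y) * x⁻¹ = (x * y)⁻¹ := by
      rw [hxi, _root_.mul_inv_rev, hxi, hyi, ← mul_assoc x x, hx, one_mul]
    rw [this]
    exact inv_mem (Subgroup.mem_zpowers _)
  · refine solvable_of_normalizing ?_
    have hxi : x⁻¹ = x := inv_eq_of_mul_eq_one_right hx
    have : x * y * x⁻¹ = y⁻¹ := by
      rw [hxi, ← mul_eq_one_iff_eq_inv, mul_assoc]; exact hxy
    rw [this]
    exact inv_mem (Subgroup.mem_zpowers _)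

theorem alt_five_not_solvable : ¬ Group.IsSolvable (alternatingGroup (Fin 5)) := by
  intro h
  refine Equiv.Perm.not_solvable (Fin 5) ?_ ?_
  · simp
  · haveI := h
    exact Group.isSolvable_of_ker_le_range (alternatingGroup (Fin 5)).subtype
      (Equiv.Perm.sign : Equiv.Perm (Fin 5) →* ℤˣ) fun x hx => ⟨⟨x, hx⟩, rfl⟩

theorem not_solvable_of_simple [IsSimpleGroup G] {a b : G} (hab : a * b ≠ b * a) :
    ¬ Group.IsSolvable G := by
  intro h
  have : commutator G < ⊤ := Group.IsSolvable.commutator_lt_top_of_nontrivial (hG := h) _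
  rcases Subgroup.Normal.eq_bot_or_eq_top (H := commutator G) inferInstance with h1 | h1
  · have hm : ⁅a, b⁆ ∈ commutator G :=
      Subgroup.commutator_mem_commutator (Subgroup.mem_top a) (Subgroup.mem_top b)
    rw [h1, Subgroup.mem_bot, commutatorElement_eq_one_iff_mul_comm] at hm
    exact hab hm
  · exact this.ne h1

end Group

theorem onePoint_card (E : Type*) [Finite E] : Nat.card (OnePoint E) = Nat.card E + 1 :=
  Finite.card_option

/-- `PSL₂` of a field with at least four elements is not solvable. -/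
theorem ps_not_solvable (E : Type*) [Field E] [Finite E] (hE : 4 ≤ Nat.card E) :
    ¬ Group.IsSolvable (PS E) ∧ 60 ≤ Nat.card (PS E) := by
  classical
  haveI := Matrix.ProjectiveSpecialLinearGroup.rank_two_simple hE
  haveI := Fintype.ofFinite E
  have hc := gcd_mul_card_PS (F := E)
  rw [← Nat.card_eq_fintype_card] at hc
  constructor
  · set u : SpecialLinearGroup (Fin 2) E := CfsgLib.SL2Trace.mk2 1 1 0 1 (by ring)
    set l : SpecialLinearGroup (Fin 2) E := CfsgLib.SL2Trace.mk2 1 0 1 1 (by ring)
    refine not_solvable_of_simple (a := (QuotientGroup.mk u : PS E)) (b := QuotientGroup.mk l) ?_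
    rw [← QuotientGroup.mk_mul, ← QuotientGroup.mk_mul, Ne, QuotientGroup.eq]
    intro hmem
    obtain ⟨-, h2, -⟩ := CfsgLib.SL2Trace.mem_center_iff_entries.1 hmem
    simp [u, l, CfsgLib.SL2Trace.coe_mk2, SpecialLinearGroup.coe_inv, Matrix.adjugate_fin_two,
      Matrix.mul_apply, Fin.sum_univ_two] at h2
  · have hg : Nat.gcd 2 (Nat.card E - 1) ≤ 2 := Nat.le_of_dvd two_pos (Nat.gcd_dvd_left _ _)
    rcases Nat.lt_or_ge (Nat.card E) 5 with h | h
    · have h4 : Nat.card E = 4 := by omega
      rw [h4, show Nat.gcd 2 (4 - 1) = 1 by decide] at hc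
      omega
    · have h1 : 5 * 24 ≤ Nat.card E * (Nat.card E ^ 2 - 1) := by
        refine Nat.mul_le_mul h ?_
        have : 5 ^ 2 ≤ Nat.card E ^ 2 := Nat.pow_le_pow_left h 2
        omega
      have h2 : Nat.gcd 2 (Nat.card E - 1) * Nat.card (PS E) ≤ 2 * Nat.card (PS E) :=
        Nat.mul_le_mul_right _ hg
      omega

variable {F : Type*} [Field F] [Fintype F] [DecidableEq F] (p : ℕ) [Fact p.Prime] [CharP F p]

/-- The point stabiliser is solvable. -/
theorem pointStab_solvable (P : OnePoint F) : Group.IsSolvable (pointStab P) := by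
  obtain ⟨g, rfl⟩ := exists_smul_infty P
  obtain ⟨μ, hμ⟩ := exists_multiplier g
  haveI : Group.IsSolvable μ.ker := Group.isSolvable_of_comm fun a b => by
    obtain ⟨b₁, h1⟩ := hμ a.1
    obtain ⟨b₂, h2⟩ := hμ b.1
    rw [show μ a.1 = 1 from MonoidHom.mem_ker.1 a.2] at h1
    rw [show μ b.1 = 1 from MonoidHom.mem_ker.1 b.2] at h2
    apply Subtype.ext
    apply Subtype.ext
    apply (MulAut.conj g⁻¹).injective
    show g⁻¹ * ((a.1 : PG F) * b.1) * g⁻¹⁻¹ = g⁻¹ * ((b.1 : PG F) * a.1) * g⁻¹⁻¹
    rw [inv_inv, show g⁻¹ * ((a.1 : PG F) * b.1) * g = (g⁻¹ * a.1 * g) * (g⁻¹ * b.1 * g) by group,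
      show g⁻¹ * ((b.1 : PG F) * a.1) * g = (g⁻¹ * b.1 * g) * (g⁻¹ * a.1 * g) by group,
      h1, h2, aff_mul, aff_mul]
    simp [add_comm]
  haveI : Group.IsSolvable μ.range := Group.isSolvable_of_comm fun a b => mul_comm a b
  haveI : Group.IsSolvable (MulAction.stabilizer (PG F) (g • (∞ : OnePoint F))) := Group.isSolvable_of_ker_le_range μ.ker.subtype μ.rangeRestrict
    (by rw [MonoidHom.ker_rangeRestrict, Subgroup.range_subtype])
  exact Group.isSolvable_of_isSolvable_injective
    (f := ((toPG (K := F)).comp (Subgroup.subtype _)).codRestrict (MulAction.stabilizer (PG F) (g • (∞ : OnePoint F))) fun x => x.2)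
    fun a b e => Subtype.ext (toPG_injective (congrArg Subtype.val e))

theorem solvable_of_fixed {x y : PS F} {P : OnePoint F} (hx : toPG x • P = P) (hy : toPG y • P = P) :
    Group.IsSolvable ↥(Subgroup.closure ({x, y} : Set (PS F))) := by
  haveI := pointStab_solvable P
  refine Group.isSolvable_of_isSolvable_injective (f := Subgroup.inclusion
    ((Subgroup.closure_le _).2 ?_ : Subgroup.closure ({x, y} : Set (PS F)) ≤ pointStab P))
    (Subgroup.inclusion_injective _)
  rintro z (rfl | rfl)
  · exact hx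
  · exact hy

variable {p}

/-- The subgroups of `PSL₂(p^l)`, `p ≤ 3`, `l` prime: solvable of four kinds, or large and not
solvable. -/
theorem kinds {l : ℕ} (hl : l.Prime) (hp : p = 2 ∨ (p = 3 ∧ Odd l))
    (hF : Fintype.card F = p ^ l) (H : Subgroup (PS F)) :
    (∃ P : OnePoint F, ∀ h ∈ H, toPG h • P = P) ∨ (IsCyclic H ∧ ¬ p ∣ Nat.card H) ∨
    (∃ k, 2 ≤ k ∧ ¬ p ∣ k ∧ Nonempty (H ≃* DihedralGroup k)) ∨
    (∃ ι : H →* Equiv.Perm (Fin (p + 1)), Function.Injective ι ∧
      (p = 3 → ι.range = alternatingGroup (Fin (p + 1)))) ∨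
    (¬ Group.IsSolvable H ∧ 60 ≤ Nat.card H) := by
  have hp23 : p = 2 ∨ p = 3 := hp.imp id And.left
  rcases classify_psl p H with h | h | h | ⟨h, ⟨e⟩⟩ | ⟨h, ⟨e⟩⟩ | ⟨-, ⟨e⟩⟩ | ⟨E, hE⟩
  · exact Or.inr (Or.inl ⟨h.1, h.2.1⟩)
  · obtain ⟨k, h1, h2, -, h3⟩ := h
    exact Or.inr (Or.inr (Or.inl ⟨k, h1, h2, h3⟩))
  · exact Or.inl h.2
  · rw [Nat.card_congr e.toEquiv, card_alt_four] at h
    rcases hp23 with rfl | rfl <;> exact absurd (by norm_num) h
  · rw [Nat.card_congr e.toEquiv, card_sym_four] at h
    rcases hp23 with rfl | rfl <;> exact absurd (by norm_num) h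
  · refine Or.inr (Or.inr (Or.inr (Or.inr ⟨fun hs => alt_five_not_solvable ?_, ?_⟩)))
    · haveI := hs
      exact Group.isSolvable_of_surjective (f := e.toMonoidHom) e.surjective
    · rw [Nat.card_congr e.toEquiv, card_alt_five]
  haveI : Finite E := Finite.of_injective _ E.subtype.injective
  haveI := Fintype.ofFinite E
  haveI : CharP E p := RingHom.charP E.subtype E.subtype.injective p
  obtain ⟨m, hm0, hm⟩ := card_subfield_pow E
  obtain ⟨r, -, hr⟩ := FiniteField.card E p
  rw [← Nat.card_eq_fintype_card] at hr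
  rw [hr, hF, ← pow_mul] at hm
  have hrl : (r : ℕ) * m = l := Nat.pow_right_injective (Fact.out : p.Prime).two_le hm
  rcases (hl.eq_one_or_self_of_dvd r ⟨m, hrl.symm⟩) with hr1 | hrl'
  · -- the prime field
    rw [hr1, pow_one] at hr
    refine Or.inr (Or.inr (Or.inr (Or.inl ?_)))
    have hO : Nat.card (OnePoint E) = p + 1 := by rw [onePoint_card, hr]
    haveI : Finite (OnePoint E) := inferInstanceAs (Finite (Option E))
    let φ : OnePoint E ≃ Fin (p + 1) := Finite.equivFinOfCardEq hO
    let a : PG E →* Equiv.Perm (Fin (p + 1)) :=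
      φ.permCongrHom.toMonoidHom.comp (MulAction.toPermHom (PG E) (OnePoint E))
    have ha : Function.Injective a := by
      rw [injective_iff_map_eq_one]
      intro g hg
      have hfix : ∀ P : OnePoint E, g • P = P := fun P => by
        have := Equiv.ext_iff.1 (φ.permCongrHom.injective (hg.trans (map_one φ.permCongrHom).symm)) P
        exact this
      exact eq_one_of_fix_three (x := ∞) (y := ((0 : E) : OnePoint E)) (z := ((1 : E) : OnePoint E))
        (by simp) (by simp) zero_ne_one_onePoint (hfix _) (hfix _) (hfix _)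
    have hb : ∃ ι : H →* Equiv.Perm (Fin (p + 1)), Function.Injective ι ∧
        Nat.card (PS E) ∣ Nat.card H := by
      rcases hE with ⟨⟨e⟩⟩ | ⟨-, ⟨e⟩⟩
      · refine ⟨a.comp e.toMonoidHom, ha.comp e.injective, ?_⟩
        rw [Nat.card_congr e.toEquiv]
        exact Subgroup.card_dvd_of_injective toPG toPG_injective
      · exact ⟨(a.comp toPG).comp e.toMonoidHom, (ha.comp toPG_injective).comp e.injective,
          by rw [Nat.card_congr e.toEquiv]⟩
    obtain ⟨ι, hι, hdvd⟩ := hb
    refine ⟨ι, hι, fun h3 => ?_⟩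
    subst h3
    obtain ⟨-, hodd⟩ := hp.resolve_left (by norm_num)
    have h12 : Nat.card (PS E) = 12 := by
      have := gcd_mul_card_PS (F := E)
      rw [← Nat.card_eq_fintype_card, hr, show Nat.gcd 2 (3 - 1) = 2 by decide] at this
      norm_num at this
      simp only [← Nat.card_eq_fintype_card] at this
      omega
    rw [h12] at hdvd
    have h24 : Nat.card H ∣ 24 := by
      have := Subgroup.card_dvd_of_injective ι hι
      rwa [Nat.card_perm, Nat.card_fin] at this
    have hne : Nat.card H ≠ 24 := by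
      intro h
      have hG := gcd_mul_card_PS (F := F)
      rw [hF] at hG
      have h8 : (3 ^ l) % 8 = 3 := by
        obtain ⟨j, rfl⟩ := hodd
        rw [pow_succ, pow_mul, Nat.mul_mod, Nat.pow_mod]
        norm_num
      have h24G : 24 ∣ Nat.card (PS F) := h ▸ Subgroup.card_subgroup_dvd_card H
      obtain ⟨c, hc⟩ := h24G
      obtain ⟨q, hq⟩ : ∃ q, q = 3 ^ l := ⟨_, rfl⟩
      rw [← hq] at hG h8
      have hgcd : Nat.gcd 2 (q - 1) = 2 := Nat.gcd_eq_left (by omega)
      rw [hgcd, hc] at hG
      obtain ⟨i, rfl⟩ : ∃ i, q = 8 * i + 3 := ⟨q / 8, by omega⟩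
      have e1 : (8 * i + 3) ^ 2 - 1 = 8 * (8 * i ^ 2 + 6 * i + 1) := by
        have : (8 * i + 3) ^ 2 = 8 * (8 * i ^ 2 + 6 * i + 1) + 1 := by ring
        omega
      rw [e1] at hG
      have hodd1 : (8 * i + 3) % 2 = 1 := by omega
      have hodd2 : (8 * i ^ 2 + 6 * i + 1) % 2 = 1 := by omega
      have e2 : (8 * i + 3) * (8 * i ^ 2 + 6 * i + 1) = 6 * c := by linarith
      have e3 := Nat.mul_mod (8 * i + 3) (8 * i ^ 2 + 6 * i + 1) 2
      rw [hodd1, hodd2, e2] at e3
      omega
    have hcard : Nat.card H = 12 := by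
      have h1 := Nat.le_of_dvd (by norm_num) h24
      obtain ⟨c, hc⟩ := hdvd
      have : 0 < Nat.card H := Nat.card_pos
      omega
    have hrc : Nat.card ι.range = 12 := by
      rw [← hcard]
      exact (Nat.card_congr (MonoidHom.ofInjective hι).toEquiv).symm
    have := ι.range.card_mul_index
    rw [hrc, Nat.card_perm, Nat.card_fin] at this
    norm_num [Nat.factorial] at this
    exact Equiv.Perm.eq_alternatingGroup_of_index_eq_two (by omega)
  · -- the whole field
    have hm1 : m = 1 := by
      rw [hrl'] at hrl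
      exact Nat.eq_of_mul_eq_mul_left hl.pos (hrl.trans (mul_one l).symm)
    have hE4 : 4 ≤ Nat.card E := by
      rw [hr, hrl']
      exact le_trans (by norm_num : 4 ≤ 2 ^ 2)
        ((Nat.pow_le_pow_left (Fact.out : p.Prime).two_le 2).trans
          (Nat.pow_le_pow_right (Fact.out : p.Prime).pos hl.two_le))
    obtain ⟨hns, h60⟩ := ps_not_solvable E hE4
    refine Or.inr (Or.inr (Or.inr (Or.inr ?_)))
    haveI : Finite (PG E) := Finite.of_surjective (fun g => ProjGenLinGroup.mk g) fun x => by
      induction x using ProjGenLinGroup.induction_on with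
      | mk g => exact ⟨g, rfl⟩
    rcases hE with ⟨⟨e⟩⟩ | ⟨-, ⟨e⟩⟩
    · refine ⟨fun hs => hns ?_, ?_⟩
      · haveI := hs
        exact Group.isSolvable_of_isSolvable_injective (f := e.symm.toMonoidHom.comp toPG)
          (e.symm.injective.comp toPG_injective)
      · rw [Nat.card_congr e.toEquiv]
        exact h60.trans (Nat.card_le_card_of_injective toPG toPG_injective)
    · refine ⟨fun hs => hns ?_, by rw [Nat.card_congr e.toEquiv]; exact h60⟩
      haveI := hs
      exact Group.isSolvable_of_isSolvable_injective (f := e.symm.toMonoidHom) e.symm.injective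

end CfsgLib.PSL2Sol
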