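import Cfsg.Agent.Lib.PSL2Sub.Bounds
import Cfsg.Agent.Lib.PSL2Sub.PSL
import Cfsg.Agent.Lib.SL2Trace.Tori
import Mathlib.Data.Set.Card

/-!
Lifts to `SL₂`, normal forms, and the centralisers of regular elements of `PSL₂`.
-/

set_option autoImplicit false
set_option linter.unusedSectionVars false
set_option linter.style.haveILetI false

namespace CfsgLib.PSL2Sol

open Matrix OnePoint CfsgLib.PSL2Sub
open CfsgLib.SL2Trace (mk2 comp coe_mk2 coe_comp)

variable {F : Type*} [Field F] [Fintype F]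

local notation "SL2" => SpecialLinearGroup (Fin 2) F

local notation "π₂" => (QuotientGroup.mk : SpecialLinearGroup (Fin 2) F → PS F)

theorem card_center_sl :
    Nat.card (Subgroup.center SL2) = Nat.gcd 2 (Fintype.card F - 1) := by
  have h1 := Linear.card_PSL_mul (n := Fin 2) (F := F)
  rw [Fintype.card_fin] at h1
  have h2 := Subgroup.card_eq_card_quotient_mul_card_subgroup (Subgroup.center SL2)
  rw [← h1, mul_comm] at h2
  exact (Nat.eq_of_mul_eq_mul_left (Nat.card_pos (α := SL2 ⧸ Subgroup.center SL2)) h2).symm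

/-- Counting elements of `PSL₂` through their lifts. -/
theorem card_lift (P : PS F → Prop) :
    Nat.card {M : SL2 // P (π₂ M)} = Nat.gcd 2 (Fintype.card F - 1) * Nat.card {y : PS F // P y} := by
  classical
  rw [← card_center_sl, mul_comm, ← Nat.card_prod]
  have hsurj : ∀ y : PS F, ∃ M : SL2, π₂ M = y := QuotientGroup.mk_surjective
  choose s hs using hsurj
  refine Nat.card_congr
    { toFun := fun M => (⟨π₂ M.1, M.2⟩, ⟨(s (π₂ M.1))⁻¹ * M.1, by
        rw [← QuotientGroup.eq]; exact hs _⟩)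
      invFun := fun y => ⟨s y.1.1 * y.2.1, by
        have : π₂ (s y.1.1 * y.2.1) = y.1.1 := by
          rw [QuotientGroup.mk_mul_of_mem _ y.2.2, hs]
        rw [this]; exact y.1.2⟩
      left_inv := fun M => Subtype.ext (by simp)
      right_inv := fun y => by
        have h : π₂ (s y.1.1 * y.2.1) = y.1.1 := by
          rw [QuotientGroup.mk_mul_of_mem _ y.2.2, hs]
        refine Prod.ext (Subtype.ext h) (Subtype.ext ?_)
        show (s (π₂ (s y.1.1 * y.2.1)))⁻¹ * (s y.1.1 * y.2.1) = _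
        rw [h, inv_mul_cancel_left] }

theorem center_cases' {z : SL2} (hz : z ∈ Subgroup.center SL2) : z = 1 ∨ z = -1 := by
  obtain ⟨r, hr, hrz⟩ := Matrix.SpecialLinearGroup.mem_center_iff.1 hz
  rw [Fintype.card_fin] at hr
  rcases sq_eq_one_iff.1 hr with rfl | rfl
  · left; apply Subtype.ext; rw [← hrz]; simp
  · right; apply Subtype.ext; rw [← hrz, map_neg, map_one]; simp [SpecialLinearGroup.coe_neg]

theorem mk_eq_iff {M N : SL2} : π₂ M = π₂ N ↔ N = M ∨ N = -M := by
  rw [QuotientGroup.eq]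
  constructor
  · intro h
    rcases center_cases' h with h | h
    · left; rw [inv_mul_eq_one] at h; exact h.symm
    · right; rw [inv_mul_eq_iff_eq_mul, mul_neg, mul_one] at h; exact h
  · rintro (rfl | rfl)
    · rw [inv_mul_cancel]; exact one_mem _
    · rw [mul_neg, inv_mul_cancel]
      refine CfsgLib.SL2Trace.mem_center_of_scalar (-1) ?_
      ext i j
      fin_cases i <;> fin_cases j <;> simp [Matrix.SpecialLinearGroup.coe_neg]

theorem trace_neg (M : SL2) :
    ((-M : SL2) : Matrix (Fin 2) (Fin 2) F).trace = -(M : Matrix (Fin 2) (Fin 2) F).trace := by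
  simp [SpecialLinearGroup.coe_neg]

theorem mk_sq_iff (M : SL2) :
    π₂ M * π₂ M = 1 ↔ (M : Matrix (Fin 2) (Fin 2) F).trace = 0 ∨ π₂ M = 1 := by
  rw [← QuotientGroup.mk_mul, QuotientGroup.eq_one_iff, CfsgLib.SL2Trace.mem_center_iff_entries,
    QuotientGroup.eq_one_iff, CfsgLib.SL2Trace.mem_center_iff_entries]
  have hdet := CfsgLib.SL2Trace.det_coe M
  have hmm : ∀ i j, (M * M).1 i j =
      (M : Matrix (Fin 2) (Fin 2) F).trace * M.1 i j - (1 : Matrix (Fin 2) (Fin 2) F) i j :=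
    fun i j => congrFun (congrFun (CfsgLib.SL2Trace.mul_self_eq M) i) j
  simp only [hmm, Matrix.trace_fin_two, Matrix.one_apply_ne (show (0 : Fin 2) ≠ 1 by decide),
    Matrix.one_apply_ne (show (1 : Fin 2) ≠ 0 by decide), Matrix.one_apply_eq, sub_zero]
  constructor
  · rintro ⟨h1, h2, h3⟩
    by_cases ht : M.1 0 0 + M.1 1 1 = 0
    · exact Or.inl ht
    · exact Or.inr ⟨(mul_eq_zero.1 h1).resolve_left ht, (mul_eq_zero.1 h2).resolve_left ht,
        mul_left_cancel₀ ht (sub_left_injective h3)⟩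
  · rintro (h | ⟨h1, h2, h3⟩)
    · simp [h]
    · simp [h1, h2, h3]

variable [DecidableEq F]

theorem smul_mk_coe (M : SL2) (z : F) :
    toPG (π₂ M) • (z : OnePoint F) =
      if (M : Matrix (Fin 2) (Fin 2) F) 1 0 * z + (M : Matrix (Fin 2) (Fin 2) F) 1 1 = 0 then ∞
      else (((M : Matrix (Fin 2) (Fin 2) F) 0 0 * z + (M : Matrix (Fin 2) (Fin 2) F) 0 1) /
        ((M : Matrix (Fin 2) (Fin 2) F) 1 0 * z + (M : Matrix (Fin 2) (Fin 2) F) 1 1) : F) := by
  show (ProjGenLinGroup.mk (SpecialLinearGroup.toGL M) : PG F) • (z : OnePoint F) = _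
  rw [mk_smul_onePoint, smul_some_eq_ite]
  rfl

theorem mem_pointStab_infty {M : SL2} :
    π₂ M ∈ pointStab (∞ : OnePoint F) ↔ (M : Matrix (Fin 2) (Fin 2) F) 1 0 = 0 := by
  show (ProjGenLinGroup.mk (SpecialLinearGroup.toGL M) : PG F) • (∞ : OnePoint F) = ∞ ↔ _
  rw [mk_smul_onePoint, smul_infty_eq_self_iff]
  rfl

theorem exists_map_infty (P : OnePoint F) : ∃ g : PS F, toPG g • (∞ : OnePoint F) = P := by
  cases P with
  | infty => exact ⟨1, by rw [map_one, one_smul]⟩
  | coe x =>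
    refine ⟨π₂ (mk2 x (-1) 1 0 (by ring)), ?_⟩
    show (ProjGenLinGroup.mk (SpecialLinearGroup.toGL (mk2 x (-1) 1 0 (by ring))) : PG F) • _ = _
    rw [mk_smul_onePoint, smul_infty_eq_ite]
    simp [coe_mk2]

variable (p : ℕ) [Fact p.Prime] [CharP F p]

/-- An element of order `p` is conjugate to an upper unitriangular one. -/
theorem exists_conj_upper {x : PS F} (hx : x ≠ 1) (hxp : x ^ p = 1) :
    ∃ (g : PS F) (t : F), t ≠ 0 ∧ g * x * g⁻¹ = π₂ (mk2 1 t 0 1 (by ring)) := by
  obtain ⟨P, hP⟩ := exists_fixed_of_pow_char p (toPG x) (by rw [← map_pow, hxp, map_one])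
  obtain ⟨g, hg⟩ := exists_map_infty P
  have hfix : toPG (g⁻¹ * x * g) • (∞ : OnePoint F) = ∞ := by
    rw [map_mul, map_mul, map_inv, mul_smul, mul_smul, hg, hP, inv_smul_eq_iff, hg]
  obtain ⟨M, hM⟩ : ∃ M, π₂ M = g⁻¹ * x * g := QuotientGroup.mk_surjective _
  rw [← hM] at hfix
  have hc : M.1 1 0 = 0 := mem_pointStab_infty.1 hfix
  have hpow : π₂ M ^ p = 1 := by
    rw [hM]
    have := conj_pow (i := p) (a := g⁻¹) (b := x)
    rw [inv_inv] at this
    rw [this, hxp, mul_one, inv_mul_cancel]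
  have hdet := CfsgLib.SL2Trace.det_coe M
  rw [hc, mul_zero, sub_zero] at hdet
  -- the diagonal of a unipotent
  have hpowM : ∀ n : ℕ, (M ^ n).1 1 0 = 0 ∧ (M ^ n).1 0 0 = M.1 0 0 ^ n ∧
      (M ^ n).1 1 1 = M.1 1 1 ^ n := by
    intro n
    induction n with
    | zero => simp
    | succ n ih =>
      rw [pow_succ, show (M ^ n * M).1 = (M ^ n).1 * M.1 from rfl]
      generalize M ^ n = A at ih ⊢
      simp [Matrix.mul_apply, Fin.sum_univ_two, ih.1, ih.2.1, ih.2.2, hc, pow_succ]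
  rw [← QuotientGroup.mk_pow, QuotientGroup.eq_one_iff,
    CfsgLib.SL2Trace.mem_center_iff_entries] at hpow
  have e := hpow.2.2
  rw [(hpowM p).2.1, (hpowM p).2.2] at e
  have hda : M.1 0 0 = M.1 1 1 := by
    refine sub_eq_zero.1 ((pow_eq_zero_iff (Fact.out : p.Prime).ne_zero).1 ?_)
    rw [sub_pow_char, e, sub_self]
  have ha2 : M.1 0 0 * M.1 0 0 = 1 := by nth_rewrite 2 [hda]; exact hdet
  have ht : M.1 0 0 * M.1 0 1 ≠ 0 := by
    intro h0
    apply hx
    have hb : M.1 0 1 = 0 := (mul_eq_zero.1 h0).resolve_left (left_ne_zero_of_mul_eq_one ha2)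
    have : π₂ M = 1 := by
      rw [QuotientGroup.eq_one_iff, CfsgLib.SL2Trace.mem_center_iff_entries]
      exact ⟨hb, hc, hda⟩
    rw [hM] at this
    calc x = g * (g⁻¹ * x * g) * g⁻¹ := by group
      _ = 1 := by rw [this]; group
  refine ⟨g⁻¹, M.1 0 0 * M.1 0 1, ht, ?_⟩
  rw [inv_inv, ← hM, mk_eq_iff]
  rcases mul_self_eq_one_iff.1 ha2 with h | h
  · left
    apply Subtype.ext
    ext i j
    fin_cases i <;> fin_cases j <;> simp [coe_mk2, h, ← hda, hc]
  · right
    apply Subtype.ext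
    ext i j
    fin_cases i <;> fin_cases j <;> simp [coe_mk2, SpecialLinearGroup.coe_neg, h, ← hda, hc]

/-- An upper unitriangular element other than one fixes only `∞`. -/
theorem fix_upper {t : F} (ht : t ≠ 0) (P : OnePoint F) :
    toPG (π₂ (mk2 1 t 0 1 (by ring))) • P = P ↔ P = ∞ := by
  cases P with
  | infty => exact iff_of_true (mem_pointStab_infty.2 (by simp [coe_mk2])) rfl
  | coe z => rw [smul_mk_coe]; simp [coe_mk2, ht]

/-- The centraliser of a regular element, of order above two and prime to the characteristic. -/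
theorem torus {x : PS F} (hx2 : 2 < orderOf x) (hxp : ¬ orderOf x ∣ p) :
    (∃ u : PS F, u * x * u⁻¹ = x⁻¹) ∧
    ((∃ P Q : OnePoint F, P ≠ Q ∧ toPG x • P = P ∧ toPG x • Q = Q ∧
      (∀ y, y * x = x * y ↔ toPG y • P = P ∧ toPG y • Q = Q) ∧
      Nat.gcd 2 (Fintype.card F - 1) * Nat.card {y : PS F // y * x = x * y} = Fintype.card F - 1) ∨
    (Nat.gcd 2 (Fintype.card F - 1) * Nat.card {y : PS F // y * x = x * y} = Fintype.card F + 1)) := by
  obtain ⟨M, rfl, hreg, hne⟩ := CfsgLib.SL2Trace.exists_regular_lift p x hx2 hxp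
  obtain ⟨U, hU⟩ := CfsgLib.SL2Trace.exists_inverter hreg
  refine ⟨⟨π₂ U, by
    show π₂ U * π₂ M * (π₂ U)⁻¹ = (π₂ M)⁻¹
    rw [← QuotientGroup.mk_mul, ← QuotientGroup.mk_inv, ← QuotientGroup.mk_mul,
      ← QuotientGroup.mk_inv, hU]⟩, ?_⟩
  have hlift : ∀ N : SL2, π₂ N * π₂ M = π₂ M * π₂ N ↔
      N ∈ Subgroup.centralizer ({M} : Set SL2) := by
    intro N
    rw [Subgroup.mem_centralizer_singleton_iff, ← QuotientGroup.mk_mul, ← QuotientGroup.mk_mul]
    refine ⟨fun h => ?_, fun h => by rw [h]⟩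
    rcases mk_eq_iff.1 h with h | h
    · exact h.symm
    · have e : N * M * N⁻¹ = -M := by
        rw [show N * M = -(M * N) by rw [h, neg_neg], neg_mul, mul_inv_cancel_right]
      have e2 := congrArg (fun A : SL2 => (A : Matrix (Fin 2) (Fin 2) F).trace) e
      simp only [CfsgLib.SL2Trace.trace_mul_mul_inv, trace_neg] at e2
      have h2 : (2 : F) = 0 := by
        refine (mul_eq_zero.1 (?_ : (2 : F) * (M : Matrix (Fin 2) (Fin 2) F).trace = 0)).resolve_right hne
        linear_combination e2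
      have hneg : ∀ A : SL2, -A = A := fun A => by
        apply Subtype.ext
        ext i j
        simp only [SpecialLinearGroup.coe_neg, Matrix.neg_apply]
        linear_combination (-(A.1 i j)) * h2
      rw [hneg] at h
      exact h.symm
  have hcard : Nat.gcd 2 (Fintype.card F - 1) *
      Nat.card {y : PS F // y * π₂ M = π₂ M * y} =
        Nat.card (Subgroup.centralizer ({M} : Set SL2)) := by
    rw [← card_lift fun y => y * π₂ M = π₂ M * y]
    exact Nat.card_congr (Equiv.subtypeEquivRight hlift)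
  obtain ⟨-, hs, hn⟩ := CfsgLib.SL2Trace.centralizer_card_cyclic M hreg
  by_cases hroot : ∃ u : F, u ^ 2 - (M : Matrix (Fin 2) (Fin 2) F).trace * u + 1 = 0
  swap
  · exact Or.inr (hcard.trans (hn hroot))
  left
  obtain ⟨R, hR⟩ := CfsgLib.SL2Trace.exists_conj_comp M hreg
  obtain ⟨τ, hτ⟩ : ∃ τ, τ = (M : Matrix (Fin 2) (Fin 2) F).trace := ⟨_, rfl⟩
  have hs' := hs hroot
  rw [← hτ] at hR hroot hreg
  obtain ⟨u, hu⟩ := hroot
  have huu : u ≠ τ - u := by
    intro h
    apply hreg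
    linear_combination
      (-4 : F) * hu + (τ - 2 * u) * (sub_eq_zero.2 h) * (-1)
  -- the centraliser of the companion matrix fixes the two roots
  have hfix : ∀ (v : F), v ^ 2 - τ * v + 1 = 0 → ∀ h : SL2,
      h ∈ Subgroup.centralizer ({comp τ} : Set SL2) →
      toPG (π₂ h) • ((-v : F) : OnePoint F) = ((-v : F) : OnePoint F) := by
    intro v hv h hh
    obtain ⟨h1, h2⟩ := (CfsgLib.SL2Trace.mem_centralizer_comp_iff τ h).1 hh
    have hdet := CfsgLib.SL2Trace.det_coe h
    rw [h1, h2] at hdet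
    have hne : h.1 1 0 * (-v) + h.1 1 1 ≠ 0 := by
      intro h0
      rw [h2] at h0
      apply one_ne_zero (α := F)
      linear_combination -hdet + (h.1 0 0 + v * h.1 1 0) * h0 + h.1 1 0 * h.1 1 0 * hv
    rw [smul_mk_coe, if_neg hne, OnePoint.coe_eq_coe, div_eq_iff hne, h1, h2]
    linear_combination (-(h.1 1 0)) * hv
  set r := toPG (π₂ R) with hr
  refine ⟨r • ((-u : F) : OnePoint F), r • ((-(τ - u) : F) : OnePoint F), fun h => huu ?_, ?_, ?_,
    fun y => ⟨fun hy => ?_, fun hy => ?_⟩, hcard.trans hs'⟩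
  · have := MulAction.injective r h
    rwa [OnePoint.coe_eq_coe, neg_inj] at this
  · show toPG (π₂ M) • _ = _
    rw [hR, QuotientGroup.mk_mul, QuotientGroup.mk_mul, QuotientGroup.mk_inv, map_mul, map_mul,
      map_inv, mul_smul, mul_smul, ← hr, inv_smul_smul,
      hfix u hu _ (Subgroup.mem_centralizer_singleton_iff.2 rfl)]
  · show toPG (π₂ M) • _ = _
    rw [hR, QuotientGroup.mk_mul, QuotientGroup.mk_mul, QuotientGroup.mk_inv, map_mul, map_mul,
      map_inv, mul_smul, mul_smul, ← hr, inv_smul_smul,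
      hfix (τ - u) (by linear_combination hu) _ (Subgroup.mem_centralizer_singleton_iff.2 rfl)]
  · obtain ⟨N, rfl⟩ : ∃ N, π₂ N = y := QuotientGroup.mk_surjective y
    have hN := (hlift N).1 hy
    have hmem : R⁻¹ * N * R ∈ Subgroup.centralizer ({comp τ} : Set SL2) := by
      rw [Subgroup.mem_centralizer_singleton_iff] at hN ⊢
      rw [show comp τ = R⁻¹ * M * R by rw [hR]; group]
      calc R⁻¹ * N * R * (R⁻¹ * M * R) = R⁻¹ * (N * M) * R := by group
        _ = _ := by rw [hN]; group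
    have e : toPG (π₂ N) = r * toPG (π₂ (R⁻¹ * N * R)) * r⁻¹ := by
      rw [hr, ← map_inv, ← map_mul, ← map_mul, ← QuotientGroup.mk_inv, ← QuotientGroup.mk_mul,
        ← QuotientGroup.mk_mul]
      congr 2
      group
    constructor
    · rw [e, mul_smul, mul_smul, inv_smul_smul, hfix u hu _ hmem]
    · rw [e, mul_smul, mul_smul, inv_smul_smul, hfix (τ - u) (by linear_combination hu) _ hmem]
  · -- two fixed points: conjugate into the diagonal
    obtain ⟨hy1, hy2⟩ := hy
    have hne2 : r • ((-u : F) : OnePoint F) ≠ r • ((-(τ - u) : F) : OnePoint F) := fun h => huu (by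
      have := MulAction.injective r h
      rwa [OnePoint.coe_eq_coe, neg_inj] at this)
    obtain ⟨g, hg1, hg2⟩ := exists_smul_infty_zero hne2
    have hdiag : ∀ w : PG F, w • (r • ((-u : F) : OnePoint F)) = r • ((-u : F) : OnePoint F) →
        w • (r • ((-(τ - u) : F) : OnePoint F)) = r • ((-(τ - u) : F) : OnePoint F) →
        ∃ a : Fˣ, g⁻¹ * w * g = aff a 0 := by
      intro w h1 h2
      obtain ⟨a, b, hab⟩ := exists_aff_of_fix_infty (g := g⁻¹ * w * g)
        (by rw [mul_smul, mul_smul, hg1, h1, inv_smul_eq_iff, hg1])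
      have h0 : (g⁻¹ * w * g) • ((0 : F) : OnePoint F) = ((0 : F) : OnePoint F) := by
        rw [mul_smul, mul_smul, hg2, h2, inv_smul_eq_iff, hg2]
      rw [hab, aff_smul_coe, mul_zero, zero_add, OnePoint.coe_eq_coe] at h0
      exact ⟨a, by rw [hab, h0]⟩
    obtain ⟨a, ha⟩ := hdiag (toPG y) hy1 hy2
    obtain ⟨a', ha'⟩ := hdiag (toPG (π₂ M)) (by
      rw [hR, QuotientGroup.mk_mul, QuotientGroup.mk_mul, QuotientGroup.mk_inv, map_mul, map_mul,
        map_inv, mul_smul, mul_smul, ← hr, inv_smul_smul,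
        hfix u hu _ (Subgroup.mem_centralizer_singleton_iff.2 rfl)]) (by
      rw [hR, QuotientGroup.mk_mul, QuotientGroup.mk_mul, QuotientGroup.mk_inv, map_mul, map_mul,
        map_inv, mul_smul, mul_smul, ← hr, inv_smul_smul,
        hfix (τ - u) (by linear_combination hu) _ (Subgroup.mem_centralizer_singleton_iff.2 rfl)])
    apply toPG_injective
    apply (MulAut.conj g⁻¹).injective
    show g⁻¹ * toPG (y * π₂ M) * g⁻¹⁻¹ = g⁻¹ * toPG (π₂ M * y) * g⁻¹⁻¹
    rw [inv_inv, map_mul, map_mul,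
      show g⁻¹ * (toPG y * toPG (π₂ M)) * g = (g⁻¹ * toPG y * g) * (g⁻¹ * toPG (π₂ M) * g) by group,
      show g⁻¹ * (toPG (π₂ M) * toPG y) * g = (g⁻¹ * toPG (π₂ M) * g) * (g⁻¹ * toPG y * g) by group,
      ha, ha', aff_mul, aff_mul, mul_comm a a', mul_zero, mul_zero]

end CfsgLib.PSL2Sol
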