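import Cfsg.Agent.Lib.PSL2Sol.General
import Cfsg.Agent.Lib.PSL2Sol.Points
import Cfsg.Agent.Lib.PermGen.SwapClosure

/-!
The solubiliser of an element of order above two prime to the characteristic, and facts on the
small solvable groups.
-/

set_option autoImplicit false
set_option linter.unusedSectionVars false
set_option linter.style.haveILetI false

namespace CfsgLib.PSL2Sol

open Matrix OnePoint CfsgLib.PSL2Sub

section Small

open DihedralGroup

variable {k : ℕ}

theorem dih_involution (a b : DihedralGroup k) (ha : a * a = 1) :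
    a * b = b * a ∨ b * b = 1 ∨ (a * b) * (a * b) = 1 := by
  rcases a with i | i <;> rcases b with j | j
  · left; rw [r_mul_r, r_mul_r, add_comm]
  · left
    rw [r_mul_r, one_def] at ha
    have h : i + i = 0 := DihedralGroup.r.inj ha
    rw [r_mul_sr, sr_mul_r]
    congr 1
    linear_combination (-(1 : ZMod k)) * h
  · right; right; rw [sr_mul_r, sr_mul_sr, sub_self, ← one_def]
  · right; left; rw [sr_mul_sr, sub_self, ← one_def]

theorem dih_not_rotation (hk : Odd k) (a b : DihedralGroup k) (ha : a * a = 1) (ha1 : a ≠ 1) :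
    b * b = 1 ∨ (a * b) * (a * b) = 1 := by
  rcases a with i | i
  · exfalso
    rw [r_mul_r, one_def] at ha
    have h : i + i = 0 := DihedralGroup.r.inj ha
    obtain ⟨m, hm⟩ := hk
    apply ha1
    rw [one_def]
    congr 1
    have : ((2 * m + 1 : ℕ) : ZMod k) = 0 := by rw [← hm, ZMod.natCast_self]
    push_cast at this
    linear_combination i * this - (m : ZMod k) * h
  · rcases b with j | j
    · right; rw [sr_mul_r, sr_mul_sr, sub_self, ← one_def]
    · left; rw [sr_mul_sr, sub_self, ← one_def]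

theorem dih_big (a b : DihedralGroup k) (ha : a * a ≠ 1) :
    b * a = a * b ∨ b * a * b⁻¹ = a⁻¹ := by
  rcases a with i | i
  · rcases b with j | j
    · left; rw [r_mul_r, r_mul_r, add_comm]
    · right; rw [inv_sr, sr_mul_r, sr_mul_sr, inv_r]; congr 1; ring
  · exact absurd (by rw [sr_mul_sr, sub_self, ← one_def]) ha

theorem dih_no_three (hk : ¬ 3 ∣ k) (a : DihedralGroup k) (ha : a ^ 3 = 1) : a = 1 := by
  rcases a with i | i
  · rw [pow_succ, pow_two, r_mul_r, r_mul_r, one_def] at ha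
    have h : i + i + i = 0 := DihedralGroup.r.inj ha
    obtain ⟨c, hc⟩ : ∃ c : ZMod k, (3 : ZMod k) * c = 1 := by
      have h3 : Nat.Coprime 3 k := (Nat.prime_three.coprime_iff_not_dvd).2 hk
      refine ⟨((3 : ℕ) : ZMod k)⁻¹, ?_⟩
      exact_mod_cast ZMod.coe_mul_inv_eq_one 3 h3
    rw [one_def]
    congr 1
    linear_combination c * h - i * hc
  · exfalso
    rw [pow_succ, pow_two, sr_mul_sr, sub_self, ← one_def, one_mul] at ha
    rw [one_def] at ha
    cases ha

theorem dih_solvable (k : ℕ) [NeZero k] : Group.IsSolvable (DihedralGroup k) := by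
  have h : Subgroup.closure ({sr 0, r 1} : Set (DihedralGroup k)) = ⊤ := by
    rw [eq_top_iff]
    intro a _
    have hr : ∀ i : ZMod k, r i ∈ Subgroup.closure ({sr 0, r 1} : Set (DihedralGroup k)) := by
      intro i
      have := Subgroup.pow_mem _ (Subgroup.subset_closure (k := ({sr 0, r 1} : Set (DihedralGroup k)))
        (Set.mem_insert_of_mem _ (Set.mem_singleton _))) i.val
      rwa [r_one_pow, ZMod.natCast_zmod_val] at this
    rcases a with i | i
    · exact hr i
    · have := mul_mem (Subgroup.subset_closure (k := ({sr 0, r 1} : Set (DihedralGroup k)))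
        (Set.mem_insert _ _)) (hr i)
      rwa [sr_mul_r, zero_add] at this
  have hs := solvable_of_normalizing (x := sr (0 : ZMod k)) (y := r 1) (by
    rw [inv_sr, sr_mul_r, sr_mul_sr]
    refine (Subgroup.inv_mem_iff _).1 ?_
    rw [inv_r]
    simp [Subgroup.mem_zpowers])
  rw [h] at hs
  haveI := hs
  exact Group.isSolvable_of_isSolvable_injective
    (f := (Subgroup.topEquiv : _ ≃* DihedralGroup k).symm.toMonoidHom)
    (Subgroup.topEquiv : _ ≃* DihedralGroup k).symm.injective

set_option maxRecDepth 20000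
set_option synthInstance.maxSize 1000
set_option maxSynthPendingDepth 5

theorem perm_three_big : ∀ a b : Equiv.Perm (Fin 3),
    b * a = a * b ∨ b * a * b⁻¹ = a⁻¹ ∨ a * a = 1 := by decide

theorem perm_three_involution : ∀ a b : Equiv.Perm (Fin 3),
    a * a = 1 → a ≠ 1 → b * b = 1 ∨ (a * b) * (a * b) = 1 := by decide

theorem alt_four_big : ∀ a : Equiv.Perm (Fin 4), Equiv.Perm.sign a = 1 →
    a * a = 1 ∨ a ^ 3 = 1 := by decide

theorem alt_four_involution : ∀ a b : Equiv.Perm (Fin 4), Equiv.Perm.sign a = 1 →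
    Equiv.Perm.sign b = 1 → a * a = 1 → a ≠ 1 →
    a * b = b * a ∨ b * b = 1 ∨ (b ^ 3 = 1 ∧ (a * b) ^ 3 = 1) := by decide

theorem alt_four_three : ∀ a b : Equiv.Perm (Fin 4), Equiv.Perm.sign a = 1 →
    Equiv.Perm.sign b = 1 → a ^ 3 = 1 → a ≠ 1 →
    b * a = a * b ∨ (b * b = 1 ∧ (a * b) ^ 3 = 1) ∨ (b ^ 3 = 1 ∧ (a * b) ^ 2 = 1) ∨
      (b ^ 3 = 1 ∧ (a⁻¹ * b) ^ 2 = 1) := by decide

end Small

variable {F : Type*} [Field F] [Fintype F] [DecidableEq F] {p : ℕ} [Fact p.Prime] [CharP F p]
  {l : ℕ}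

/-- A group with at most twelve elements is solvable. -/
theorem solvable_of_card_le (hl : l.Prime) (hp : p = 2 ∨ (p = 3 ∧ Odd l))
    (hF : Fintype.card F = p ^ l) (H : Subgroup (PS F)) (h : Nat.card H ≤ 12) :
    Group.IsSolvable H := by
  rcases kinds hl hp hF H with ⟨P, hP⟩ | ⟨hc, -⟩ | ⟨k, hk, -, ⟨e⟩⟩ | ⟨ι, hι, -⟩ | ⟨-, h60⟩
  · haveI := pointStab_solvable P
    exact Group.isSolvable_of_isSolvable_injective
      (Subgroup.inclusion_injective (show H ≤ pointStab P from hP))
  · haveI := hc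
    exact Group.isSolvable_of_comm fun a b => (inferInstance : IsMulCommutative H).is_comm.comm a b
  · haveI : NeZero k := ⟨by omega⟩
    haveI := dih_solvable k
    exact Group.isSolvable_of_isSolvable_injective (f := e.toMonoidHom) e.injective
  · haveI := CfsgLib.PermGen.perm_four_isSolvable
    have hle : p + 1 ≤ 4 := by rcases hp with rfl | ⟨rfl, -⟩ <;> norm_num
    exact Group.isSolvable_of_isSolvable_injective
      (f := (Equiv.Perm.viaEmbeddingHom (Fin.castLEEmb hle)).comp ι)
      ((Equiv.Perm.viaEmbeddingHom_injective _).comp hι)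
  · omega

/-- The cases of a solvable pair. -/
theorem pair_cases (hl : l.Prime) (hp : p = 2 ∨ (p = 3 ∧ Odd l))
    (hF : Fintype.card F = p ^ l) {x y : PS F}
    (h : Group.IsSolvable ↥(Subgroup.closure ({x, y} : Set (PS F)))) :
    (∃ P : OnePoint F, toPG x • P = P ∧ toPG y • P = P) ∨
    (x * y = y * x ∧ ¬ p ∣ orderOf x) ∨
    (∃ (k : ℕ) (a b : DihedralGroup k), ¬ p ∣ k ∧
      (∀ n : ℕ, x ^ n = 1 ↔ a ^ n = 1) ∧ (a * b = b * a → x * y = y * x) ∧
      (b * b = 1 → y * y = 1) ∧ ((a * b) * (a * b) = 1 → (x * y) * (x * y) = 1) ∧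
      (b * a * b⁻¹ = a⁻¹ → y * x * y⁻¹ = x⁻¹)) ∨
    (∃ (a b : Equiv.Perm (Fin (p + 1))), (p = 3 → Equiv.Perm.sign a = 1 ∧ Equiv.Perm.sign b = 1) ∧
      (∀ n : ℕ, x ^ n = 1 ↔ a ^ n = 1) ∧ (a * b = b * a → x * y = y * x) ∧
      (∀ n : ℕ, b ^ n = 1 → y ^ n = 1) ∧ (∀ n : ℕ, (a * b) ^ n = 1 → (x * y) ^ n = 1) ∧
      (∀ n : ℕ, (a⁻¹ * b) ^ n = 1 → (x⁻¹ * y) ^ n = 1) ∧
      (b * a * b⁻¹ = a⁻¹ → y * x * y⁻¹ = x⁻¹)) := by
  set H := Subgroup.closure ({x, y} : Set (PS F)) with hH
  have hx : x ∈ H := Subgroup.subset_closure (Set.mem_insert x {y})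
  have hy : y ∈ H := Subgroup.subset_closure (Set.mem_insert_of_mem x (Set.mem_singleton y))
  have pull : ∀ {G : Type} [Group G] (f : H →* G), Function.Injective f → ∀ (u : H), f u = 1 →
      u.1 = 1 := fun f hf u hu => congrArg Subtype.val (hf (hu.trans (map_one f).symm))
  rcases kinds hl hp hF H with ⟨P, hP⟩ | ⟨hc, hnd⟩ | ⟨k, -, hk, ⟨e⟩⟩ | ⟨ι, hι, hr⟩ | ⟨hns, -⟩
  · exact Or.inl ⟨P, hP x hx, hP y hy⟩
  · haveI := hc
    refine Or.inr (Or.inl ⟨congrArg Subtype.val
      ((inferInstance : IsMulCommutative H).is_comm.comm (⟨x, hx⟩ : H) ⟨y, hy⟩), fun hd => hnd ?_⟩)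
    rw [← Subgroup.orderOf_mk x hx] at hd
    exact hd.trans (orderOf_dvd_natCard _)
  · refine Or.inr (Or.inr (Or.inl ⟨k, e ⟨x, hx⟩, e ⟨y, hy⟩, hk, fun n => ?_, fun h' => ?_,
      fun h' => ?_, fun h' => ?_, fun h' => ?_⟩))
    · rw [← map_pow, map_eq_one_iff e e.injective, ← Subtype.val_inj]; rfl
    · exact congrArg Subtype.val (e.injective (show e (⟨x, hx⟩ * ⟨y, hy⟩) = e (⟨y, hy⟩ * ⟨x, hx⟩) by
        simp only [map_mul, map_inv, map_pow, map_one]; exact h'))
    · exact congrArg Subtype.val (e.injective (show e (⟨y, hy⟩ * ⟨y, hy⟩) = e 1 by simp only [map_mul, map_inv, map_pow, map_one]; exact h'))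
    · exact congrArg Subtype.val (e.injective
        (show e (⟨x, hx⟩ * ⟨y, hy⟩ * (⟨x, hx⟩ * ⟨y, hy⟩)) = e 1 by simp only [map_mul, map_inv, map_pow, map_one]; exact h'))
    · exact congrArg Subtype.val (e.injective
        (show e (⟨y, hy⟩ * ⟨x, hx⟩ * ⟨y, hy⟩⁻¹) = e (⟨x, hx⟩⁻¹) by simp only [map_mul, map_inv, map_pow, map_one]; exact h'))
  · refine Or.inr (Or.inr (Or.inr ⟨ι ⟨x, hx⟩, ι ⟨y, hy⟩, fun h3 => ?_, fun n => ?_, fun h' => ?_,
      fun n h' => ?_, fun n h' => ?_, fun n h' => ?_, fun h' => ?_⟩))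
    · have hm : ∀ u : H, Equiv.Perm.sign (ι u) = 1 := fun u => by
        rw [← Equiv.Perm.mem_alternatingGroup, ← hr h3]
        exact ⟨u, rfl⟩
      exact ⟨hm _, hm _⟩
    · rw [← map_pow, map_eq_one_iff ι hι, ← Subtype.val_inj]; rfl
    · exact congrArg Subtype.val (hι (show ι (⟨x, hx⟩ * ⟨y, hy⟩) = ι (⟨y, hy⟩ * ⟨x, hx⟩) by
        simp only [map_mul, map_inv, map_pow, map_one]; exact h'))
    · exact pull ι hι (⟨y, hy⟩ ^ n) (by simp only [map_mul, map_inv, map_pow, map_one]; exact h')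
    · exact pull ι hι ((⟨x, hx⟩ * ⟨y, hy⟩) ^ n) (by simp only [map_mul, map_inv, map_pow, map_one]; exact h')
    · exact pull ι hι ((⟨x, hx⟩⁻¹ * ⟨y, hy⟩) ^ n) (by simp only [map_mul, map_inv, map_pow, map_one]; exact h')
    · exact congrArg Subtype.val (hι
        (show ι (⟨y, hy⟩ * ⟨x, hx⟩ * ⟨y, hy⟩⁻¹) = ι (⟨x, hx⟩⁻¹) by simp only [map_mul, map_inv, map_pow, map_one]; exact h'))
  · exact absurd h hns

/-- The solubiliser of a regular element. -/
theorem sol_tame (hl : l.Prime) (hp : p = 2 ∨ (p = 3 ∧ Odd l)) (hF : Fintype.card F = p ^ l)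
    {x : PS F} (hx2 : 2 < orderOf x) (hxp : ¬ orderOf x ∣ p) (y : PS F) :
    Group.IsSolvable ↥(Subgroup.closure ({x, y} : Set (PS F))) ↔
      (∃ P : OnePoint F, toPG x • P = P ∧ toPG y • P = P) ∨ y * x = x * y ∨
        y * x * y⁻¹ = x⁻¹ := by
  constructor
  · intro h
    have hxx : x ^ 2 ≠ 1 := fun e => by
      have := orderOf_le_of_pow_eq_one two_pos e
      omega
    rcases pair_cases hl hp hF h with hP | ⟨hc, -⟩ | ⟨k, a, b, -, ha, h1, -, -, h4⟩ |
      ⟨a, b, hs, ha, h1, -, -, -, h4⟩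
    · exact Or.inl hP
    · exact Or.inr (Or.inl hc.symm)
    · have : a * a ≠ 1 := fun e => hxx ((ha 2).2 (by rw [pow_two]; exact e))
      rcases dih_big a b this with h' | h'
      · exact Or.inr (Or.inl (h1 h'.symm).symm)
      · exact Or.inr (Or.inr (h4 h'))
    · have haa : a * a ≠ 1 := fun e => hxx ((ha 2).2 (by rw [pow_two]; exact e))
      rcases hp with rfl | ⟨rfl, -⟩
      · rcases perm_three_big a b with h' | h' | h'
        · exact Or.inr (Or.inl (h1 h'.symm).symm)
        · exact Or.inr (Or.inr (h4 h'))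
        · exact absurd h' haa
      · refine absurd (orderOf_dvd_of_pow_eq_one ((ha 3).2 ?_)) hxp
        exact (alt_four_big a (hs rfl).1).resolve_left haa
  · rintro (⟨P, h1, h2⟩ | h | h)
    · exact solvable_of_fixed h1 h2
    · rw [Set.pair_comm]
      exact solvable_of_normalizing (by rw [h, mul_inv_cancel_right]; exact Subgroup.mem_zpowers x)
    · rw [Set.pair_comm]
      exact solvable_of_normalizing (by rw [h]; exact inv_mem (Subgroup.mem_zpowers x))

/-- The number of the inverting elements. -/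
theorem card_inverting {x u : PS F} (hu : u * x * u⁻¹ = x⁻¹) :
    Nat.card {y : PS F // y * x * y⁻¹ = x⁻¹} = Nat.card {y : PS F // y * x = x * y} := by
  refine Nat.card_congr
    { toFun := fun y => ⟨u⁻¹ * y.1, ?_⟩
      invFun := fun c => ⟨u * c.1, ?_⟩
      left_inv := fun y => Subtype.ext (mul_inv_cancel_left u y.1)
      right_inv := fun c => Subtype.ext (inv_mul_cancel_left u c.1) }
  · have h : y.1 * x = u * x * u⁻¹ * y.1 := by rw [hu]; exact mul_inv_eq_iff_eq_mul.1 y.2
    rw [mul_assoc, h]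
    group
  · rw [show u * c.1 * x * (u * c.1)⁻¹ = u * (c.1 * x * c.1⁻¹) * u⁻¹ by group, c.2,
      mul_inv_cancel_right, hu]

/-- The count for a regular element. -/
theorem card_sol_tame (hl : l.Prime) (hp : p = 2 ∨ (p = 3 ∧ Odd l)) (hF : Fintype.card F = p ^ l)
    {x : PS F} (hx2 : 2 < orderOf x) (hxp : ¬ orderOf x ∣ p) :
    (orderOf x ∣ Fintype.card F - 1 → Nat.gcd 2 (Fintype.card F - 1) *
      Nat.card {y : PS F // Group.IsSolvable ↥(Subgroup.closure ({x, y} : Set (PS F)))} =
        2 * Fintype.card F * (Fintype.card F - 1)) ∧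
    (orderOf x ∣ Fintype.card F + 1 → Nat.gcd 2 (Fintype.card F - 1) *
      Nat.card {y : PS F // Group.IsSolvable ↥(Subgroup.closure ({x, y} : Set (PS F)))} =
        2 * (Fintype.card F + 1)) := by
  classical
  obtain ⟨d, hd⟩ : ∃ d, d = Nat.gcd 2 (Fintype.card F - 1) := ⟨_, rfl⟩
  rw [← hd]
  have hd1 : d ∣ 2 := hd ▸ Nat.gcd_dvd_left _ _
  obtain ⟨⟨u, hu⟩, htor⟩ := torus p hx2 hxp
  rw [← hd] at htor
  set C : Set (PS F) := {y | y * x = x * y} with hC
  set I : Set (PS F) := {y | y * x * y⁻¹ = x⁻¹} with hI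
  have hIC : I.ncard = C.ncard := card_inverting hu
  have hCI : Disjoint C I := by
    rw [Set.disjoint_left]
    intro y hy hy'
    change y * x = x * y at hy
    change y * x * y⁻¹ = x⁻¹ at hy'
    rw [hy, mul_inv_cancel_right] at hy'
    have : x ^ 2 = 1 := by rw [pow_two]; exact mul_eq_one_iff_eq_inv.2 hy'
    have := orderOf_le_of_pow_eq_one two_pos this
    omega
  have hordC : orderOf x ∣ C.ncard := by
    have e : C.ncard = Nat.card (Subgroup.centralizer ({x} : Set (PS F))) :=
      Nat.card_congr (Equiv.subtypeEquivRight fun y => Subgroup.mem_centralizer_singleton_iff.symm)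
    rw [e, ← Subgroup.orderOf_mk x (Subgroup.mem_centralizer_singleton_iff.2 rfl)]
    exact orderOf_dvd_natCard _
  have hnot : ∀ a b : ℕ, orderOf x ∣ a → orderOf x ∣ b → b = a + 2 → False := fun a b h1 h2 h3 => by
    have := Nat.le_of_dvd two_pos ((Nat.dvd_add_right h1).1 (h3 ▸ h2))
    omega
  have hq : 2 ≤ Fintype.card F := Fintype.one_lt_card
  rcases htor with ⟨P, Q, hPQ, hxP, hxQ, hCiff, hcard⟩ | hcard
  · refine ⟨fun _ => ?_, fun h => absurd (hnot _ _ ((Dvd.dvd.mul_left hordC d).trans (dvd_of_eq hcard)) h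
      (by omega)) id⟩
    have hfix : ∀ P', toPG x • P' = P' → P' = P ∨ P' = Q := fun P' h =>
      fixed_eq_or (fun e => by
        have : x = 1 := toPG_injective (e.trans (map_one toPG).symm)
        rw [this, orderOf_one] at hx2; omega) hPQ hxP hxQ h
    set BP : Set (PS F) := (pointStab P : Set (PS F))
    set BQ : Set (PS F) := (pointStab Q : Set (PS F))
    have hset : {y : PS F | Group.IsSolvable ↥(Subgroup.closure ({x, y} : Set (PS F)))} =
        BP ∪ BQ ∪ I := by
      ext y
      rw [Set.mem_setOf_eq, sol_tame hl hp hF hx2 hxp]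
      constructor
      · rintro (⟨P', h1, h2⟩ | h | h)
        · rcases hfix P' h1 with rfl | rfl
          · exact Or.inl (Or.inl h2)
          · exact Or.inl (Or.inr h2)
        · exact Or.inl (Or.inl ((hCiff y).1 h).1)
        · exact Or.inr h
      · rintro ((h | h) | h)
        · exact Or.inl ⟨P, hxP, h⟩
        · exact Or.inl ⟨Q, hxQ, h⟩
        · exact Or.inr (Or.inr h)
    have hinter : BP ∩ BQ = C := by
      ext y; exact (hCiff y).symm
    have hdisj : Disjoint (BP ∪ BQ) I := by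
      rw [Set.disjoint_left]
      intro y hy hy'
      change y * x * y⁻¹ = x⁻¹ at hy'
      have hyx : ∀ R : OnePoint F, toPG x • R = R → toPG x • (toPG y • R) = toPG y • R := fun R hR => by
        have e : x * y = y * x⁻¹ := by
          have := congrArg (fun z => z⁻¹ * y) hy'
          simp only [inv_inv] at this
          rw [← this]; group
        have hR' : (toPG x)⁻¹ • R = R := by rw [inv_smul_eq_iff, hR]
        rw [← mul_smul, ← map_mul, e, map_mul, mul_smul, map_inv, hR']
      refine Set.disjoint_left.1 hCI ((hCiff y).2 ?_) hy'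
      rcases hy with hy | hy
      · refine ⟨hy, ?_⟩
        rcases hfix _ (hyx Q hxQ) with h | h
        · exact absurd (MulAction.injective (toPG y) (h.trans (Eq.symm hy))) (Ne.symm hPQ)
        · exact h
      · refine ⟨?_, hy⟩
        rcases hfix _ (hyx P hxP) with h | h
        · exact h
        · exact absurd (MulAction.injective (toPG y) (h.trans (Eq.symm hy))) hPQ
    have hBP := gcd_mul_card_pointStab (F := F) P
    have hBQ := gcd_mul_card_pointStab (F := F) Q
    rw [← hd] at hBP hBQ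
    have e1 := Set.ncard_union_add_ncard_inter BP BQ
    have e2 := Set.ncard_union_eq hdisj
    rw [hinter] at e1
    change d * Set.ncard {y : PS F | Group.IsSolvable ↥(Subgroup.closure ({x, y} : Set (PS F)))} = _
    rw [hset, e2, hIC, e1]
    show d * (Nat.card (pointStab P) + Nat.card (pointStab Q)) = _
    rw [mul_add, hBP, hBQ]
    ring
  · refine ⟨fun h => absurd (hnot _ _ h ((Dvd.dvd.mul_left hordC d).trans (dvd_of_eq hcard))
      (by omega)) id, fun h => ?_⟩
    have hnofix : ∀ P : OnePoint F, toPG x • P ≠ P := fun P hP => by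
      have h1 : orderOf x ∣ Nat.card (pointStab P) := by
        rw [← Subgroup.orderOf_mk x (show x ∈ pointStab P from hP)]
        exact orderOf_dvd_natCard _
      have h2 : orderOf x ∣ Fintype.card F * (Fintype.card F - 1) := by
        rw [← gcd_mul_card_pointStab P]
        exact Dvd.dvd.mul_left h1 _
      have hco : Nat.Coprime (orderOf x) (Fintype.card F) :=
        Nat.Coprime.coprime_dvd_left h (Nat.coprime_self_add_left.2 (Nat.coprime_one_left _) |>.symm.symm)
      exact hnot _ _ (hco.dvd_of_dvd_mul_left h2) h (by omega)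
    have hset : {y : PS F | Group.IsSolvable ↥(Subgroup.closure ({x, y} : Set (PS F)))} = C ∪ I := by
      ext y
      rw [Set.mem_setOf_eq, sol_tame hl hp hF hx2 hxp]
      constructor
      · rintro (⟨P, h1, -⟩ | h | h)
        · exact absurd h1 (hnofix P)
        · exact Or.inl h
        · exact Or.inr h
      · rintro (h | h)
        · exact Or.inr (Or.inl h)
        · exact Or.inr (Or.inr h)
    change d * Set.ncard {y : PS F | Group.IsSolvable ↥(Subgroup.closure ({x, y} : Set (PS F)))} = _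
    rw [hset, Set.ncard_union_eq hCI, hIC, mul_add]
    change d * C.ncard = _ at hcard
    rw [hcard]
    ring

end CfsgLib.PSL2Sol
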