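import Cfsg.Agent.Lib.PSL2Sol.Even
import Cfsg.Agent.Lib.PSL2Sub.Klein

/-!
The solubilisers of an involution and of an element of order three in `PSL₂(3^l)`.
-/

set_option autoImplicit false
set_option linter.unusedSectionVars false
set_option linter.style.haveILetI false

namespace CfsgLib.PSL2Sol

open Matrix OnePoint CfsgLib.PSL2Sub
open CfsgLib.SL2Trace (mk2 comp coe_mk2 coe_comp Conic)

variable {F : Type*} [Field F] [Fintype F]

local notation "SL2" => SpecialLinearGroup (Fin 2) F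

local notation "π₂" => (QuotientGroup.mk : SpecialLinearGroup (Fin 2) F → PS F)

theorem three_facts (l : ℕ) (hodd : Odd l) (hF : Fintype.card F = 3 ^ l) [CharP F 3] :
    Nat.gcd 2 (Fintype.card F - 1) = 2 ∧ (2 : F) ≠ 0 ∧ (¬ ∃ u : F, u ^ 2 + 1 = 0) ∧
      Fintype.card F % 8 = 3 ∧ (3 : F) = 0 := by
  have h8 : Fintype.card F % 8 = 3 := by
    obtain ⟨j, rfl⟩ := hodd
    rw [hF, pow_succ, pow_mul, Nat.mul_mod, Nat.pow_mod]
    norm_num
  have h3 : (3 : F) = 0 := by exact_mod_cast CharP.cast_eq_zero F 3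
  refine ⟨Nat.gcd_eq_left (by omega), fun h => one_ne_zero (α := F) (by linear_combination h3 - h),
    ?_, h8, h3⟩
  rintro ⟨u, hu⟩
  have h : IsSquare (-1 : F) := ⟨u, by linear_combination -hu⟩
  rw [FiniteField.isSquare_neg_one_iff] at h
  omega

/-- The number of square roots of one. -/
theorem card_signs (h2 : (2 : F) ≠ 0) : Nat.card {s : F // s ^ 2 = 1} = 2 := by
  rw [Nat.card_eq_two_iff]
  refine ⟨⟨1, one_pow 2⟩, ⟨-1, by ring⟩, fun h => h2 ?_, ?_⟩
  · have := congrArg Subtype.val h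
    linear_combination this
  · ext s
    simp only [Set.mem_insert_iff, Set.mem_singleton_iff, Set.mem_univ, iff_true]
    rcases sq_eq_one_iff.1 s.2 with h | h
    · exact Or.inl (Subtype.ext h)
    · exact Or.inr (Subtype.ext h)

theorem mk_cube_iff [CharP F 3] (M : SL2) :
    π₂ M ^ 3 = 1 ↔ (M : Matrix (Fin 2) (Fin 2) F).trace ^ 2 = 1 := by
  have h3 : (3 : F) = 0 := by exact_mod_cast CharP.cast_eq_zero F 3
  rw [← QuotientGroup.mk_pow, QuotientGroup.eq_one_iff, CfsgLib.SL2Trace.mem_center_iff_entries]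
  obtain ⟨τ, hτ⟩ : ∃ τ, τ = (M : Matrix (Fin 2) (Fin 2) F).trace := ⟨_, rfl⟩
  have hm : ∀ i j, (M ^ 3).1 i j = (τ ^ 2 - 1) * M.1 i j - τ * (1 : Matrix (Fin 2) (Fin 2) F) i j := by
    intro i j
    have e := CfsgLib.SL2Trace.mul_self_eq M
    rw [← hτ] at e
    show ((M ^ 3 : SL2) : Matrix (Fin 2) (Fin 2) F) i j = _
    rw [Matrix.SpecialLinearGroup.coe_pow, pow_succ, pow_two, e, Matrix.sub_mul, Matrix.smul_mul,
      e, one_mul, smul_sub, smul_smul]
    simp only [Matrix.sub_apply, Matrix.smul_apply, smul_eq_mul]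
    ring
  simp only [hm, Matrix.one_apply_ne (show (0 : Fin 2) ≠ 1 by decide),
    Matrix.one_apply_ne (show (1 : Fin 2) ≠ 0 by decide), Matrix.one_apply_eq, mul_zero, sub_zero]
  rw [← hτ]
  constructor
  · rintro ⟨h1, h2, h4⟩
    by_contra hne
    have hk : τ ^ 2 - 1 ≠ 0 := sub_ne_zero.2 hne
    have hb := (mul_eq_zero.1 h1).resolve_left hk
    have hd : M.1 0 0 = M.1 1 1 := mul_left_cancel₀ hk (sub_left_injective h4)
    have hdet := CfsgLib.SL2Trace.det_coe M
    rw [hb, ← hd] at hdet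
    apply hne
    rw [hτ, Matrix.trace_fin_two, ← hd]
    linear_combination 4 * hdet + h3
  · intro h
    simp [h]

variable [DecidableEq F] [CharP F 3] {l : ℕ}

local notation "S₀" => comp (0 : F)

theorem comp_zero_sq : S₀ * S₀ = -1 := by
  apply Subtype.ext
  ext i j
  fin_cases i <;> fin_cases j <;>
    simp [coe_comp, Matrix.SpecialLinearGroup.coe_mul, Matrix.SpecialLinearGroup.coe_neg]

/-- The lifts commuting with `S₀` up to sign. -/
theorem lift_commute (M : SL2) : π₂ M * π₂ S₀ = π₂ S₀ * π₂ M ↔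
    M ∈ Subgroup.centralizer ({S₀} : Set SL2) ∨ M * S₀ = -(S₀ * M) := by
  rw [Subgroup.mem_centralizer_singleton_iff, ← QuotientGroup.mk_mul, ← QuotientGroup.mk_mul,
    mk_eq_iff]
  constructor
  · rintro (h | h)
    · exact Or.inl h.symm
    · exact Or.inr (by rw [h, neg_neg])
  · rintro (h | h)
    · exact Or.inl h.symm
    · exact Or.inr (by rw [h, neg_neg])

theorem anti_entries {M : SL2} (h : M * S₀ = -(S₀ * M)) : M.1 1 1 = -M.1 0 0 := by
  have e : (M * S₀).1 1 0 = (-(S₀ * M) : SL2).1 1 0 := by rw [h]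
  change ((M : Matrix (Fin 2) (Fin 2) F) * (S₀ : Matrix (Fin 2) (Fin 2) F)) 1 0 =
    -((S₀ : Matrix (Fin 2) (Fin 2) F) * (M : Matrix (Fin 2) (Fin 2) F)) 1 0 at e
  simpa [coe_comp, Matrix.mul_apply, Fin.sum_univ_two] using e

theorem conic_card (l : ℕ) (hodd : Odd l) (hF : Fintype.card F = 3 ^ l) :
    Nat.card (Conic (0 : F)) = Fintype.card F + 1 := by
  obtain ⟨-, h2, hns, -, -⟩ := three_facts l hodd hF
  have h4 : (0 : F) ^ 2 ≠ 4 := fun h => h2 (by
    have : (2 : F) * 2 = 0 := by linear_combination -h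
    rcases mul_eq_zero.1 this with h' | h' <;> exact h')
  rw [← Nat.card_congr (CfsgLib.SL2Trace.centralizerEquivConic (0 : F))]
  refine (CfsgLib.SL2Trace.card_centralizer_comp 0 h4).2 ?_
  rintro ⟨u, hu⟩
  exact hns ⟨u, by linear_combination hu⟩

/-- The sizes of the pieces for an involution. -/
theorem involution_counts (l : ℕ) (hodd : Odd l) (hF : Fintype.card F = 3 ^ l) :
    2 * Nat.card {y : PS F // y * π₂ S₀ = π₂ S₀ * y} = 2 * (Fintype.card F + 1) ∧
    2 * Nat.card {y : PS F // y * y = 1 ∧ ¬ y * π₂ S₀ = π₂ S₀ * y} + (Fintype.card F + 3) =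
      Fintype.card F * (Fintype.card F - 1) ∧
    2 * Nat.card {y : PS F // y ^ 3 = 1 ∧ (π₂ S₀ * y) ^ 3 = 1} = 4 * (Fintype.card F + 1) := by
  classical
  obtain ⟨hgcd, h2, hns, -, h3⟩ := three_facts l hodd hF
  have hconic := conic_card l hodd hF
  set A : Set SL2 := {M | M * S₀ = -(S₀ * M)} with hA
  set T : Set SL2 := {M | M ∈ Subgroup.centralizer ({S₀} : Set SL2)} with hT
  have hTc : T.ncard = Fintype.card F + 1 :=
    (Nat.card_congr (CfsgLib.SL2Trace.centralizerEquivConic (0 : F))).trans hconic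
  have h4 : (S₀ : Matrix (Fin 2) (Fin 2) F).trace ^ 2 ≠ 4 := by
    simp only [coe_comp, Matrix.trace_fin_two_of, add_zero]
    intro h
    rcases mul_eq_zero.1 (show (2 : F) * 2 = 0 by linear_combination -h) with h' | h' <;> exact h2 h'
  have hinv : S₀⁻¹ = -S₀ := by
    rw [inv_eq_iff_mul_eq_one, mul_neg, comp_zero_sq, neg_neg]
  obtain ⟨U, hU⟩ := CfsgLib.SL2Trace.exists_inverter h4
  have hUA : U * S₀ = -(S₀ * U) := by
    rw [hinv, mul_inv_eq_iff_eq_mul, neg_mul] at hU
    exact hU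
  have hAc : A.ncard = T.ncard := by
    refine Nat.card_congr ((Equiv.mulLeft U⁻¹).subtypeEquiv fun M => ?_)
    show M * S₀ = -(S₀ * M) ↔ U⁻¹ * M ∈ Subgroup.centralizer ({S₀} : Set SL2)
    rw [Subgroup.mem_centralizer_singleton_iff]
    have e : S₀ * (U⁻¹ * M) = U⁻¹ * (-(S₀ * M)) := by
      have : U⁻¹ * -(S₀ * U) = S₀ := by rw [← hUA, inv_mul_cancel_left]
      calc S₀ * (U⁻¹ * M) = (U⁻¹ * -(S₀ * U)) * (U⁻¹ * M) := by rw [this]
        _ = U⁻¹ * (-(S₀ * M)) := by rw [mul_assoc, neg_mul, mul_assoc, mul_inv_cancel_left]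
    rw [e, mul_assoc]
    exact (mul_right_inj U⁻¹).symm
  have hdisj : Disjoint T A := by
    rw [Set.disjoint_left]
    intro M hM hM'
    change M ∈ Subgroup.centralizer ({S₀} : Set SL2) at hM
    change M * S₀ = -(S₀ * M) at hM'
    rw [Subgroup.mem_centralizer_singleton_iff.1 hM] at hM'
    generalize S₀ * M = N at hM'
    have hz : ∀ i j, N.1 i j = 0 := fun i j => by
      have e := congrFun (congrFun (congrArg Subtype.val hM') i) j
      rw [show ((-N : SL2) : Matrix (Fin 2) (Fin 2) F) i j = -(N.1 i j) by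
        simp [Matrix.SpecialLinearGroup.coe_neg]] at e
      exact (mul_eq_zero.1 (show (2 : F) * N.1 i j = 0 by linear_combination e)).resolve_left h2
    have hdet := CfsgLib.SL2Trace.det_coe N
    rw [hz 0 0, hz 0 1] at hdet
    apply one_ne_zero (α := F)
    linear_combination -hdet
  refine ⟨?_, ?_, ?_⟩
  · have h := card_lift (fun y : PS F => y * π₂ S₀ = π₂ S₀ * y)
    rw [hgcd] at h
    rw [← h]
    show Set.ncard {M : SL2 | π₂ M * π₂ S₀ = π₂ S₀ * π₂ M} = _
    rw [show {M : SL2 | π₂ M * π₂ S₀ = π₂ S₀ * π₂ M} = T ∪ A from Set.ext lift_commute,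
      Set.ncard_union_eq hdisj, hAc, hTc]
    ring
  · have h := card_lift (fun y : PS F => y * y = 1 ∧ ¬ y * π₂ S₀ = π₂ S₀ * y)
    rw [hgcd] at h
    rw [← h]
    set Z : Set SL2 := {M | (M : Matrix (Fin 2) (Fin 2) F).trace = 0} with hZ
    have hZc : Z.ncard = Fintype.card F * (Fintype.card F - 1) := by
      rw [← Nat.card_eq_fintype_card (α := F),
        show Nat.card F - 1 = Nat.card Fˣ by rw [Nat.card_units], ← Nat.card_prod]
      have hc0 : ∀ M : SL2, (M : Matrix (Fin 2) (Fin 2) F).trace = 0 → M.1 1 0 ≠ 0 := by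
        intro M hM hc
        rw [Matrix.trace_fin_two] at hM
        have hdet := CfsgLib.SL2Trace.det_coe M
        rw [eq_neg_of_add_eq_zero_right hM, hc] at hdet
        exact hns ⟨M.1 0 0, by linear_combination -hdet⟩
      refine Nat.card_congr
        { toFun := fun M => (M.1.1 0 0, Units.mk0 (M.1.1 1 0) (hc0 M.1 M.2))
          invFun := fun q => ⟨mk2 q.1 ((q.1 * (-q.1) - 1) / (q.2 : F)) (q.2 : F) (-q.1)
            (by rw [div_mul_cancel₀ _ q.2.ne_zero]; ring), by simp [hZ, coe_mk2]⟩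
          left_inv := fun M => ?_
          right_inv := fun q => Prod.ext (by simp [coe_mk2]) (Units.ext (by simp [coe_mk2])) }
      obtain ⟨M, hM⟩ := M
      have hc := hc0 M hM
      change (M : Matrix (Fin 2) (Fin 2) F).trace = 0 at hM
      rw [Matrix.trace_fin_two] at hM
      have hd : M.1 1 1 = -M.1 0 0 := eq_neg_of_add_eq_zero_right hM
      have hdet := CfsgLib.SL2Trace.det_coe M
      apply Subtype.ext
      apply Subtype.ext
      ext i j
      fin_cases i <;> fin_cases j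
      · simp [coe_mk2]
      · simp [coe_mk2]
        rw [div_eq_iff hc]
        rw [hd] at hdet
        linear_combination hdet
      · simp [coe_mk2]
      · simp [coe_mk2, hd]
    have hSne : S₀ ≠ -S₀ := fun h => by
      have := congrFun (congrFun (congrArg Subtype.val h) 1) 0
      simp [coe_comp, Matrix.SpecialLinearGroup.coe_neg] at this
      exact h2 (by linear_combination this)
    have hW : Z ∩ (T ∪ A) = ({S₀, -S₀} : Set SL2) ∪ A := by
      ext M
      constructor
      · rintro ⟨hM, hM' | hM'⟩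
        · left
          change M ∈ Subgroup.centralizer ({S₀} : Set SL2) at hM'
          change (M : Matrix (Fin 2) (Fin 2) F).trace = 0 at hM
          obtain ⟨a1, a2⟩ := (CfsgLib.SL2Trace.mem_centralizer_comp_iff 0 M).1 hM'
          rw [Matrix.trace_fin_two, a2] at hM
          have ha : M.1 0 0 = 0 := (mul_eq_zero.1 (show (2 : F) * M.1 0 0 = 0 by
            linear_combination hM)).resolve_left h2
          have hdet := CfsgLib.SL2Trace.det_coe M
          rw [a1, a2, ha] at hdet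
          rcases sq_eq_one_iff.1 (show M.1 1 0 ^ 2 = 1 by linear_combination hdet) with hc | hc
          · left
            apply Subtype.ext
            ext i j
            fin_cases i <;> fin_cases j <;> simp [coe_comp, a1, a2, ha, hc]
          · right
            rw [Set.mem_singleton_iff]
            apply Subtype.ext
            ext i j
            fin_cases i <;> fin_cases j <;>
              simp [coe_comp, Matrix.SpecialLinearGroup.coe_neg, a1, a2, ha, hc]
        · exact Or.inr hM'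
      · rintro ((h' | h') | h')
        · subst h'
          exact ⟨by simp [hZ, coe_comp], Or.inl (Subgroup.mem_centralizer_singleton_iff.2 rfl)⟩
        · rw [Set.mem_singleton_iff] at h'
          subst h'
          exact ⟨by simp [hZ, coe_comp, trace_neg],
            Or.inl (Subgroup.mem_centralizer_singleton_iff.2 (by rw [neg_mul, mul_neg]))⟩
        · refine ⟨?_, Or.inr h'⟩
          show (M : Matrix (Fin 2) (Fin 2) F).trace = 0
          rw [Matrix.trace_fin_two, anti_entries h', add_neg_cancel]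
    have hset : {M : SL2 | π₂ M * π₂ M = 1 ∧ ¬ π₂ M * π₂ S₀ = π₂ S₀ * π₂ M} = Z \ (Z ∩ (T ∪ A)) := by
      ext M
      rw [Set.mem_setOf_eq, lift_commute, mk_sq_iff]
      constructor
      · rintro ⟨hM | hM, hn⟩
        · exact ⟨hM, fun hh => hn hh.2⟩
        · refine absurd (Or.inl ?_) hn
          exact Subgroup.center_le_centralizer _ ((QuotientGroup.eq_one_iff M).1 hM)
      · rintro ⟨hM, hn⟩
        exact ⟨Or.inl hM, fun hh => hn ⟨hM, hh⟩⟩
    show Set.ncard {M : SL2 | π₂ M * π₂ M = 1 ∧ ¬ π₂ M * π₂ S₀ = π₂ S₀ * π₂ M} + _ = _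
    rw [hset, ← hZc, ← Set.ncard_sdiff_add_ncard_of_subset (Set.inter_subset_left (s := Z) (t := T ∪ A))]
    congr 1
    rw [hW, Set.ncard_union_eq ?_, Set.ncard_pair hSne, hAc, hTc]
    · omega
    · rw [Set.disjoint_left]
      rintro M (rfl | hM) hA'
      · exact Set.disjoint_left.1 hdisj (Subgroup.mem_centralizer_singleton_iff.2 rfl) hA'
      · rw [Set.mem_singleton_iff] at hM
        subst hM
        exact Set.disjoint_left.1 hdisj
          (Subgroup.mem_centralizer_singleton_iff.2 (by rw [neg_mul, mul_neg])) hA'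
  · have h := card_lift (fun y : PS F => y ^ 3 = 1 ∧ (π₂ S₀ * y) ^ 3 = 1)
    rw [hgcd] at h
    rw [← h]
    have hcond : ∀ M : SL2, (π₂ M ^ 3 = 1 ∧ (π₂ S₀ * π₂ M) ^ 3 = 1) ↔
        (M.1 0 0 + M.1 1 1) ^ 2 = 1 ∧ (M.1 0 1 - M.1 1 0) ^ 2 = 1 := by
      intro M
      rw [← QuotientGroup.mk_mul, mk_cube_iff, mk_cube_iff, Matrix.trace_fin_two,
        Matrix.trace_fin_two, Matrix.SpecialLinearGroup.coe_mul]
      simp [coe_comp, Matrix.mul_apply, Fin.sum_univ_two, sub_eq_add_neg, add_comm]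
    have e4 : Nat.card ({s : F // s ^ 2 = 1} × {s : F // s ^ 2 = 1} × Conic (0 : F)) =
        4 * (Fintype.card F + 1) := by
      rw [Nat.card_prod, Nat.card_prod, card_signs h2, hconic]; ring
    rw [← e4]
    refine Nat.card_congr
      { toFun := fun M => (⟨M.1.1 0 0 + M.1.1 1 1, ((hcond M.1).1 M.2).1⟩,
          ⟨M.1.1 0 1 - M.1.1 1 0, ((hcond M.1).1 M.2).2⟩,
          ⟨(M.1.1 0 0 + (M.1.1 0 0 + M.1.1 1 1), M.1.1 0 1 + (M.1.1 0 1 - M.1.1 1 0)), ?_⟩)
        invFun := fun q => ⟨mk2 (q.2.2.1.1 - q.1.1) (q.2.2.1.2 - q.2.1.1)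
          (q.2.2.1.2 - q.2.1.1 - q.2.1.1) (q.1.1 - (q.2.2.1.1 - q.1.1)) ?_, ?_⟩
        left_inv := fun M => ?_
        right_inv := fun q => ?_ }
    · have hdet := CfsgLib.SL2Trace.det_coe M.1
      obtain ⟨k1, k2⟩ := (hcond M.1).1 M.2
      linear_combination k1 + k2 - hdet + (M.1.1 0 0 ^ 2 + M.1.1 0 0 * M.1.1 1 1 + M.1.1 0 1 ^ 2 -
        M.1.1 0 1 * M.1.1 1 0) * h3
    · linear_combination -q.2.2.2 + q.1.2 + q.2.1.2 +
        (q.1.1 * q.2.2.1.1 + q.2.2.1.2 * q.2.1.1 - q.1.1 ^ 2 - q.2.1.1 ^ 2) * h3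
    · rw [hcond]
      refine ⟨?_, ?_⟩
      · simp only [coe_mk2]
        simp
        exact sq_eq_one_iff.1 q.1.2
      · simp only [coe_mk2]
        simp
        exact sq_eq_one_iff.1 q.2.1.2
    · apply Subtype.ext
      apply Subtype.ext
      ext i j
      fin_cases i <;> fin_cases j <;> simp [coe_mk2]
    · obtain ⟨⟨s, hs⟩, ⟨r, hr⟩, ⟨⟨X, Y⟩, hc⟩⟩ := q
      refine Prod.ext (Subtype.ext ?_) (Prod.ext (Subtype.ext ?_) (Subtype.ext (Prod.ext ?_ ?_))) <;>
        simp [coe_mk2]

/-- The unipotent piece. -/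
theorem unipotent_count (l : ℕ) (hodd : Odd l) (hF : Fintype.card F = 3 ^ l) {t : F} (ht : t ≠ 0) :
    Nat.card {y : PS F // y * y = 1 ∧ (π₂ (mk2 1 t 0 1 (by ring)) * y) ^ 3 = 1 ∧
      y ∉ pointStab (∞ : OnePoint F)} = Fintype.card F := by
  classical
  obtain ⟨hgcd, h2, hns, -, h3⟩ := three_facts l hodd hF
  have h := card_lift (fun y : PS F => y * y = 1 ∧ (π₂ (mk2 1 t 0 1 (by ring)) * y) ^ 3 = 1 ∧
      y ∉ pointStab (∞ : OnePoint F))
  rw [hgcd] at h
  refine Nat.eq_of_mul_eq_mul_left two_pos ?_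
  rw [← h]
  have hcond : ∀ M : SL2, (π₂ M * π₂ M = 1 ∧ (π₂ (mk2 1 t 0 1 (by ring)) * π₂ M) ^ 3 = 1 ∧
      π₂ M ∉ pointStab (∞ : OnePoint F)) ↔ M.1 0 0 + M.1 1 1 = 0 ∧ (t * M.1 1 0) ^ 2 = 1 := by
    intro M
    rw [mk_sq_iff, ← QuotientGroup.mk_mul, mk_cube_iff, mem_pointStab_infty]
    have htr : ((mk2 1 t 0 1 (by ring) * M : SL2) : Matrix (Fin 2) (Fin 2) F).trace =
        M.1 0 0 + M.1 1 1 + t * M.1 1 0 := by
      rw [Matrix.SpecialLinearGroup.coe_mul, Matrix.trace_fin_two]
      simp [coe_mk2, Matrix.mul_apply, Fin.sum_univ_two]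
      ring
    rw [htr, Matrix.trace_fin_two]
    constructor
    · rintro ⟨h1, h2', h3'⟩
      have h0 : M.1 0 0 + M.1 1 1 = 0 := h1.resolve_right fun h =>
        h3' ((CfsgLib.SL2Trace.mem_center_iff_entries.1 ((QuotientGroup.eq_one_iff M).1 h)).2.1)
      rw [h0, zero_add] at h2'
      exact ⟨h0, h2'⟩
    · rintro ⟨h1, h2'⟩
      exact ⟨Or.inl h1, by rw [h1, zero_add]; exact h2', fun h => by rw [h, mul_zero] at h2'; simp at h2'⟩
  rw [← Nat.card_eq_fintype_card (α := F)]
  refine Eq.trans ?_ ((Nat.card_prod {s : F // s ^ 2 = 1} F).trans (by rw [card_signs h2]))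
  refine Nat.card_congr
    { toFun := fun M => (⟨t * M.1.1 1 0, ((hcond M.1).1 M.2).2⟩, M.1.1 0 0)
      invFun := fun q => ⟨mk2 q.2 ((-(q.2 * q.2) - 1) * (t * q.1.1)) (q.1.1 / t) (-q.2) ?_, ?_⟩
      left_inv := fun M => ?_
      right_inv := fun q => ?_ }
  · have hs : q.1.1 ^ 2 = 1 := q.1.2
    field_simp
    linear_combination (q.2 ^ 2 + 1) * hs
  · rw [hcond]
    refine ⟨by simp [coe_mk2], ?_⟩
    simp only [coe_mk2, Matrix.of_apply, Matrix.cons_val', Matrix.cons_val_zero, Matrix.cons_val_one,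
      Matrix.empty_val', Matrix.cons_val_fin_one]
    rw [mul_div_cancel₀ _ ht]
    exact q.1.2
  · obtain ⟨M, hM⟩ := M
    obtain ⟨k1, k2⟩ := (hcond M).1 hM
    have hd : M.1 1 1 = -M.1 0 0 := eq_neg_of_add_eq_zero_right k1
    have hdet := CfsgLib.SL2Trace.det_coe M
    rw [hd] at hdet
    apply Subtype.ext
    apply Subtype.ext
    ext i j
    fin_cases i <;> fin_cases j
    · simp [coe_mk2]
    · simp [coe_mk2]
      linear_combination M.1 0 1 * k2 + t * (t * M.1 1 0) * hdet
    · simp [coe_mk2, mul_div_cancel_left₀ _ ht]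
    · simp [coe_mk2, hd]
  · refine Prod.ext (Subtype.ext ?_) ?_ <;> simp [coe_mk2, mul_div_cancel₀ _ ht]

/-- The solubiliser of an involution in characteristic three. -/
theorem card_sol_involution_three (hl : l.Prime) (hodd : Odd l) (hF : Fintype.card F = 3 ^ l)
    {x : PS F} (hx : orderOf x = 2) :
    Nat.card {y : PS F // Group.IsSolvable ↥(Subgroup.closure ({x, y} : Set (PS F)))} =
      Fintype.card F * (Fintype.card F + 1) := by
  classical
  haveI : Fact (Nat.Prime 3) := ⟨Nat.prime_three⟩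
  obtain ⟨hgcd, h2, hns, h8, h3⟩ := three_facts l hodd hF
  have hS : orderOf (π₂ S₀) = 2 := (orderOf_two_iff h2 S₀).2 (by simp [coe_comp])
  obtain ⟨g, hg⟩ := isConj_iff.1 (isConj_involutions h2 (π₂ S₀) x hS hx)
  rw [← hg, card_sol_conj g]
  obtain ⟨hC, hJ, hD⟩ := involution_counts l hodd hF
  generalize hz : π₂ S₀ = z at hS hC hJ hD ⊢
  have hzz : z * z = 1 := (pow_two z).symm.trans (orderOf_dvd_iff_pow_eq_one.1 (dvd_of_eq hS))
  have hz1 : z ≠ 1 := ne_one_of_orderOf_two hS
  have hnofix : ∀ P : OnePoint F, toPG z • P ≠ P := by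
    intro P hP
    have h1 : 2 ∣ Nat.card (pointStab P) := by
      exact (dvd_of_eq (hS.symm.trans (Subgroup.orderOf_coe (⟨z, hP⟩ : pointStab P)))).trans
        (orderOf_dvd_natCard _)
    obtain ⟨c, hc⟩ := h1
    have h := gcd_mul_card_pointStab P
    rw [hgcd, hc] at h
    obtain ⟨i, hi⟩ : ∃ i, Fintype.card F = 8 * i + 3 := ⟨Fintype.card F / 8, by omega⟩
    rw [hi, show 8 * i + 3 - 1 = 2 * (4 * i + 1) by omega] at h
    have e2 : (8 * i + 3) * (4 * i + 1) = 2 * c := by linarith
    have e3 := Nat.mul_mod (8 * i + 3) (4 * i + 1) 2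
    rw [e2, show (8 * i + 3) % 2 = 1 by omega, show (4 * i + 1) % 2 = 1 by omega] at e3
    omega
  set C : Set (PS F) := {y | y * z = z * y}
  set J : Set (PS F) := {y | y * y = 1 ∧ ¬ y * z = z * y}
  set W : Set (PS F) := {y | z * y ∈ J}
  set D : Set (PS F) := {y | y ^ 3 = 1 ∧ (z * y) ^ 3 = 1}
  have hset : {y : PS F | Group.IsSolvable ↥(Subgroup.closure ({z, y} : Set (PS F)))} =
      C ∪ J ∪ W ∪ D := by
    ext y
    by_cases hy : y * z = z * y
    · refine iff_of_true ?_ (Or.inl (Or.inl (Or.inl hy)))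
      rw [Set.mem_setOf_eq, Set.pair_comm]
      exact solvable_of_normalizing (by rw [hy, mul_inv_cancel_right]; exact Subgroup.mem_zpowers z)
    have hy' : ¬ z * y * z = z * (z * y) := fun h => hy (mul_left_cancel (a := z) (by rw [← mul_assoc]; exact h))
    rw [Set.mem_setOf_eq]
    constructor
    · intro h
      have hor : y * y = 1 ∨ z * y * (z * y) = 1 ∨ (y ^ 3 = 1 ∧ (z * y) ^ 3 = 1) := by
        rcases pair_cases hl (Or.inr ⟨rfl, hodd⟩) hF h with ⟨P, h1, -⟩ | ⟨hc, -⟩ |
          ⟨k, a, b, -, ha, h1, h2', h3', -⟩ | ⟨a, b, hs, ha, h1, h2', h3', -, -⟩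
        · exact absurd h1 (hnofix P)
        · exact absurd hc.symm hy
        · rcases dih_involution a b (by rw [← pow_two]; exact (ha 2).1 (by rw [pow_two]; exact hzz))
            with e | e | e
          · exact absurd (h1 e).symm hy
          · exact Or.inl (h2' e)
          · exact Or.inr (Or.inl (h3' e))
        · rcases alt_four_involution a b (hs rfl).1 (hs rfl).2
            (by rw [← pow_two]; exact (ha 2).1 (by rw [pow_two]; exact hzz))
            (fun e => hz1 (by simpa using (ha 1).2 (by rw [pow_one]; exact e))) with e | e | ⟨e, e'⟩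
          · exact absurd (h1 e).symm hy
          · rw [← pow_two] at e
            exact Or.inl ((pow_two y).symm.trans (h2' 2 e))
          · exact Or.inr (Or.inr ⟨h2' 3 e, h3' 3 e'⟩)
      rcases hor with h' | h' | h'
      · exact Or.inl (Or.inl (Or.inr ⟨h', hy⟩))
      · exact Or.inl (Or.inr ⟨h', hy'⟩)
      · exact Or.inr h'
    · rintro (((h | h) | h) | h)
      · exact absurd h hy
      · exact solvable_of_dihedral hzz (Or.inl h.1)
      · exact solvable_of_dihedral hzz (Or.inr h.1)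
      · refine solvable_of_card_le hl (Or.inr ⟨rfl, hodd⟩) hF _ ?_
        obtain ⟨hy3, hzy3⟩ := h
        set H := Subgroup.closure ({z, y} : Set (PS F)) with hH
        have hzH : z ∈ H := Subgroup.subset_closure (Set.mem_insert z {y})
        have hyH : y ∈ H := Subgroup.subset_closure (Set.mem_insert_of_mem z (Set.mem_singleton y))
        refine (tetrahedral_card_le (⟨y, hyH⟩ : H) (⟨y⁻¹ * z, mul_mem (inv_mem hyH) hzH⟩ : H)
          (Subtype.ext hy3) (Subtype.ext ?_) (Subtype.ext ?_) ?_).2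
        · show (y⁻¹ * z) ^ 3 = 1
          rw [show y⁻¹ * z = (z * y)⁻¹ by
            rw [_root_.mul_inv_rev, inv_eq_of_mul_eq_one_right hzz], inv_pow, hzy3, inv_one]
        · show (y * (y⁻¹ * z)) ^ 2 = 1
          rw [mul_inv_cancel_left, pow_two, hzz]
        · rw [eq_top_iff]
          rintro ⟨w, hw⟩ -
          have : H ≤ (Subgroup.closure ({(⟨y, hyH⟩ : H), ⟨y⁻¹ * z, mul_mem (inv_mem hyH) hzH⟩} :
              Set H)).map H.subtype := by
            conv_lhs => rw [hH]
            rw [Subgroup.closure_le, Set.insert_subset_iff, Set.singleton_subset_iff]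
            refine ⟨⟨⟨y, hyH⟩ * ⟨y⁻¹ * z, mul_mem (inv_mem hyH) hzH⟩,
              mul_mem (Subgroup.subset_closure (Set.mem_insert _ _))
                (Subgroup.subset_closure (Set.mem_insert_of_mem _ (Set.mem_singleton _))),
              mul_inv_cancel_left y z⟩,
              ⟨⟨y, hyH⟩, Subgroup.subset_closure (Set.mem_insert _ _), rfl⟩⟩
          obtain ⟨v, hv, hvw⟩ := this hw
          exact (show v = ⟨w, hw⟩ from Subtype.ext hvw) ▸ hv
  have d1 : Disjoint C J := Set.disjoint_left.2 fun y hy hy' => hy'.2 hy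
  have d2 : Disjoint (C ∪ J) W := by
    rw [Set.disjoint_left]
    rintro y (hy | hy) hw
    · exact hw.2 (by rw [mul_assoc, show y * z = z * y from hy])
    · refine hy.2 ?_
      have := inv_eq_of_mul_eq_one_right hw.1
      rw [_root_.mul_inv_rev, inv_eq_of_mul_eq_one_right hzz, inv_eq_of_mul_eq_one_right hy.1] at this
      exact this
  have d3 : Disjoint (C ∪ J ∪ W) D := by
    rw [Set.disjoint_left]
    rintro y ((hy | hy) | hy) ⟨e1, e2⟩
    · rw [(show Commute y z from hy).symm.mul_pow, e1, mul_one, pow_succ, pow_two, hzz, one_mul] at e2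
      exact hz1 e2
    · refine hy.2 ?_
      have : y = 1 := by
        rw [pow_succ, pow_two, hy.1, one_mul] at e1; exact e1
      rw [this, one_mul, mul_one]
    · refine hy.2 ?_
      have : z * y = 1 := by
        rw [pow_succ, pow_two, hy.1, one_mul] at e2; exact e2
      rw [this, one_mul, mul_one]
  have hW : W.ncard = J.ncard := Nat.card_congr ((Equiv.mulLeft z).subtypeEquiv fun y => Iff.rfl)
  show Set.ncard {y : PS F | Group.IsSolvable ↥(Subgroup.closure ({z, y} : Set (PS F)))} = _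
  rw [hset, Set.ncard_union_eq d3, Set.ncard_union_eq d2, Set.ncard_union_eq d1, hW]
  change 2 * C.ncard = _ at hC
  change 2 * J.ncard + _ = _ at hJ
  change 2 * D.ncard = _ at hD
  obtain ⟨q, hq⟩ : ∃ q, Fintype.card F = q + 1 := ⟨Fintype.card F - 1, by omega⟩
  rw [hq] at hC hJ hD ⊢
  simp only [Nat.add_sub_cancel] at hJ
  nlinarith

/-- The solubiliser of an element of order three in characteristic three. -/
theorem card_sol_order_three (hl : l.Prime) (hodd : Odd l) (hF : Fintype.card F = 3 ^ l)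
    {x : PS F} (hx : orderOf x = 3) :
    2 * Nat.card {y : PS F // Group.IsSolvable ↥(Subgroup.closure ({x, y} : Set (PS F)))} =
      Fintype.card F * (Fintype.card F + 5) := by
  classical
  haveI : Fact (Nat.Prime 3) := ⟨Nat.prime_three⟩
  obtain ⟨hgcd, h2, hns, h8, h3⟩ := three_facts l hodd hF
  have hx1 : x ≠ 1 := fun h => by rw [h, orderOf_one] at hx; norm_num at hx
  obtain ⟨g, t, ht, hg⟩ := exists_conj_upper 3 hx1 (orderOf_dvd_iff_pow_eq_one.1 (dvd_of_eq hx))
  rw [← card_sol_conj g x]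
  have hord : orderOf (g * x * g⁻¹) = 3 := by
    rw [show g * x * g⁻¹ = MulAut.conj g x from rfl, MulEquiv.orderOf_eq, hx]
  have hE := unipotent_count l hodd hF ht
  rw [← hg] at hE
  obtain ⟨z, hz⟩ : ∃ z, z = g * x * g⁻¹ := ⟨_, rfl⟩
  rw [← hz] at hg hord hE ⊢
  have hz3 : z ^ 3 = 1 := orderOf_dvd_iff_pow_eq_one.1 (dvd_of_eq hord)
  have hz1 : z ≠ 1 := fun h => by rw [h, orderOf_one] at hord; norm_num at hord
  have hzz : z * z = z⁻¹ := eq_inv_of_mul_eq_one_left (by rw [← pow_two, ← pow_succ]; exact hz3)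
  have hfix : ∀ P : OnePoint F, toPG z • P = P → P = ∞ := fun P h => by
    rw [hg] at h; exact (fix_upper ht P).1 h
  have hzinf : z ∈ pointStab (∞ : OnePoint F) := by rw [hg]; exact (fix_upper ht ∞).2 rfl
  set B : Set (PS F) := (pointStab (∞ : OnePoint F) : Set (PS F))
  set E : Set (PS F) := {y | y * y = 1 ∧ (z * y) ^ 3 = 1 ∧ y ∉ pointStab (∞ : OnePoint F)}
  set E2 : Set (PS F) := {y | z * y ∈ E}
  set E3 : Set (PS F) := {y | z⁻¹ * y ∈ E}
  have conv : ∀ e ∈ E, ∀ y ∈ ({e, z * e, z⁻¹ * e} : Set (PS F)),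
      Group.IsSolvable ↥(Subgroup.closure ({z, y} : Set (PS F))) := by
    rintro e ⟨he, hze, -⟩ y hy
    have hsmall : Group.IsSolvable ↥(Subgroup.closure ({z, e} : Set (PS F))) := by
      refine solvable_of_card_le hl (Or.inr ⟨rfl, hodd⟩) hF _ ?_
      set H := Subgroup.closure ({z, e} : Set (PS F)) with hH
      have hzH : z ∈ H := Subgroup.subset_closure (Set.mem_insert z {e})
      have heH : e ∈ H := Subgroup.subset_closure (Set.mem_insert_of_mem z (Set.mem_singleton e))
      refine (tetrahedral_card_le (⟨z, hzH⟩ : H) (⟨z⁻¹ * e, mul_mem (inv_mem hzH) heH⟩ : H)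
        (Subtype.ext hz3) (Subtype.ext ?_) (Subtype.ext ?_) ?_).2
      · show (z⁻¹ * e) ^ 3 = 1
        rw [show z⁻¹ * e = z⁻¹ * (z * e)⁻¹ * z⁻¹⁻¹ by
          rw [_root_.mul_inv_rev, inv_eq_of_mul_eq_one_right he]; group,
          conj_pow, inv_pow, hze, inv_one, mul_one, mul_inv_cancel]
      · show (z * (z⁻¹ * e)) ^ 2 = 1
        rw [mul_inv_cancel_left, pow_two, he]
      · rw [eq_top_iff]
        rintro ⟨w, hw⟩ -
        have : H ≤ (Subgroup.closure ({(⟨z, hzH⟩ : H), ⟨z⁻¹ * e, mul_mem (inv_mem hzH) heH⟩} :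
            Set H)).map H.subtype := by
          conv_lhs => rw [hH]
          rw [Subgroup.closure_le, Set.insert_subset_iff, Set.singleton_subset_iff]
          exact ⟨⟨⟨z, hzH⟩, Subgroup.subset_closure (Set.mem_insert _ _), rfl⟩,
            ⟨⟨z, hzH⟩ * ⟨z⁻¹ * e, mul_mem (inv_mem hzH) heH⟩,
              mul_mem (Subgroup.subset_closure (Set.mem_insert _ _))
                (Subgroup.subset_closure (Set.mem_insert_of_mem _ (Set.mem_singleton _))),
              mul_inv_cancel_left z e⟩⟩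
        obtain ⟨v, hv, hvw⟩ := this hw
        exact (show v = ⟨w, hw⟩ from Subtype.ext hvw) ▸ hv
    haveI := hsmall
    refine Group.isSolvable_of_isSolvable_injective (Subgroup.inclusion_injective
      ((Subgroup.closure_le _).2 ?_ : Subgroup.closure ({z, y} : Set (PS F)) ≤
        Subgroup.closure ({z, e} : Set (PS F))))
    have hzm : z ∈ Subgroup.closure ({z, e} : Set (PS F)) :=
      Subgroup.subset_closure (Set.mem_insert z {e})
    have hem : e ∈ Subgroup.closure ({z, e} : Set (PS F)) :=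
      Subgroup.subset_closure (Set.mem_insert_of_mem z (Set.mem_singleton e))
    rw [Set.insert_subset_iff, Set.singleton_subset_iff]
    refine ⟨hzm, ?_⟩
    rcases hy with rfl | rfl | rfl
    · exact hem
    · exact mul_mem hzm hem
    · exact mul_mem (inv_mem hzm) hem
  have hset : {y : PS F | Group.IsSolvable ↥(Subgroup.closure ({z, y} : Set (PS F)))} =
      B ∪ E ∪ E2 ∪ E3 := by
    ext y
    by_cases hy : y ∈ pointStab (∞ : OnePoint F)
    · exact iff_of_true (solvable_of_fixed hzinf hy) (Or.inl (Or.inl (Or.inl hy)))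
    have hyB : ∀ w ∈ pointStab (∞ : OnePoint F), w * y ∉ pointStab (∞ : OnePoint F) := fun w hw h =>
      hy (by have := mul_mem (inv_mem hw) h; rwa [inv_mul_cancel_left] at this)
    have hcomm : y * z ≠ z * y := fun h => hy (hfix _ (by
      rw [← mul_smul, ← map_mul, ← h, map_mul, mul_smul]
      exact congrArg (toPG y • ·) (show toPG z • (∞ : OnePoint F) = ∞ from hzinf)))
    rw [Set.mem_setOf_eq]
    constructor
    · intro h
      rcases pair_cases hl (Or.inr ⟨rfl, hodd⟩) hF h with ⟨P, h1, h2'⟩ | ⟨-, hnd⟩ |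
        ⟨k, a, b, hk, ha, -⟩ | ⟨a, b, hs, ha, h1, h2', h3', h4', -⟩
      · obtain rfl := hfix P h1
        exact absurd h2' hy
      · exact absurd (by rw [hord]) hnd
      · have ha1 := dih_no_three hk a ((ha 3).1 hz3)
        exact absurd (by simpa using (ha 1).2 (by rw [pow_one]; exact ha1)) hz1
      · rcases alt_four_three a b (hs rfl).1 (hs rfl).2 ((ha 3).1 hz3)
          (fun e => hz1 (by simpa using (ha 1).2 (by rw [pow_one]; exact e))) with e | ⟨e, e'⟩ |
          ⟨e, e'⟩ | ⟨e, e'⟩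
        · exact absurd (h1 e.symm).symm hcomm
        · rw [← pow_two] at e
          exact Or.inl (Or.inl (Or.inr ⟨(pow_two y).symm.trans (h2' 2 e), h3' 3 e', hy⟩))
        · have k1 : y ^ 3 = 1 := h2' 3 e
          have k2 : (z * y) * (z * y) = 1 := (pow_two _).symm.trans (h3' 2 e')
          have k3 : z * (z * y) = y * z * y⁻¹ := by
            have i1 : y * z * y = z⁻¹ := by
              rw [eq_inv_iff_mul_eq_one]
              calc y * z * y * z = z⁻¹ * ((z * y) * (z * y)) * z := by group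
                _ = 1 := by rw [k2]; group
            have i2 : y * y = y⁻¹ := eq_inv_of_mul_eq_one_left (by rw [← pow_two, ← pow_succ]; exact k1)
            rw [← mul_assoc, hzz, ← i1, mul_assoc (y * z) y y, i2]
          exact Or.inl (Or.inr ⟨k2, by rw [k3, conj_pow, hz3, mul_one, mul_inv_cancel],
            hyB z hzinf⟩)
        · exact Or.inr ⟨(pow_two _).symm.trans (h4' 2 e'),
            by rw [mul_inv_cancel_left]; exact h2' 3 e, hyB _ (inv_mem hzinf)⟩
    · rintro (((h | h) | h) | h)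
      · exact absurd h hy
      · exact conv y h y (Or.inl rfl)
      · exact conv (z * y) h y (Or.inr (Or.inr (inv_mul_cancel_left z y).symm))
      · exact conv (z⁻¹ * y) h y (Or.inr (Or.inl (mul_inv_cancel_left z y).symm))
  have one_of : ∀ w : PS F, w * w = 1 → w ^ 3 = 1 → w = 1 := fun w h1 h2 => by
    rw [pow_succ, pow_two, h1, one_mul] at h2; exact h2
  have d1 : Disjoint B E := Set.disjoint_left.2 fun y hy hy' => hy'.2.2 hy
  have d2 : Disjoint (B ∪ E) E2 := by
    rw [Set.disjoint_left]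
    rintro y (hy | hy) hw
    · exact hw.2.2 (mul_mem hzinf hy)
    · have h := one_of _ hw.1 hy.2.1
      exact hw.2.2 (by rw [h]; exact one_mem _)
  have d3 : Disjoint (B ∪ E ∪ E2) E3 := by
    rw [Set.disjoint_left]
    rintro y ((hy | hy) | hy) hw
    · exact hw.2.2 (mul_mem (inv_mem hzinf) hy)
    · have h := one_of y hy.1 (by have := hw.2.1; rwa [mul_inv_cancel_left] at this)
      exact hy.2.2 (by rw [h]; exact one_mem _)
    · have h2' := hy.2.1
      rw [← mul_assoc, hzz] at h2'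
      have h := one_of _ hw.1 h2'
      exact hw.2.2 (by rw [h]; exact one_mem _)
  have hE2 : E2.ncard = E.ncard := Nat.card_congr ((Equiv.mulLeft z).subtypeEquiv fun y => Iff.rfl)
  have hE3 : E3.ncard = E.ncard := Nat.card_congr ((Equiv.mulLeft z⁻¹).subtypeEquiv fun y => Iff.rfl)
  have hB := gcd_mul_card_pointStab (F := F) (∞ : OnePoint F)
  rw [hgcd] at hB
  change 2 * B.ncard = _ at hB
  change E.ncard = _ at hE
  show 2 * Set.ncard {y : PS F | Group.IsSolvable ↥(Subgroup.closure ({z, y} : Set (PS F)))} = _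
  rw [hset, Set.ncard_union_eq d3, Set.ncard_union_eq d2, Set.ncard_union_eq d1, hE2, hE3, hE]
  obtain ⟨q, hq⟩ : ∃ q, Fintype.card F = q + 1 := ⟨Fintype.card F - 1, by omega⟩
  rw [hq] at hB ⊢
  simp only [Nat.add_sub_cancel] at hB
  nlinarith

end CfsgLib.PSL2Sol
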